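/- Split octagons have regular panel actions. -/
import Cfsg.Agent.H12.BP6
import Cfsg.Agent.H9.BpHE

set_option autoImplicit false

namespace H12.BP

open Subgroup MulAction Cfsg

universe u

variable {n : ℕ} {G V : Type u} [Group G] [MulAction G V] {E : V → V → Prop} {p : ℕ}

variable (E) in
/-- Size of a punctured star. -/
noncomputable def pd (u v : V) : ℕ := Nat.card {w // E u w ∧ w ≠ v}

variable (G E) in
/-- Uniqueness of the involution fixing only `u` in the star of `v`. -/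
def UI (v u : V) : Prop := ∀ a b : G, a • v = v → b • v = v → a • u = u → b • u = u → a * a = 1 →
  b * b = 1 → (∀ w, E v w → w ≠ u → a • w ≠ w) → (∀ w, E v w → w ≠ u → b • w ≠ w) →
  ∀ w, E v w → a • w = b • w

theorem dbl [Finite G] {H K : Subgroup G} (h : H ≤ K) (k : ¬ K ≤ H) : 2 * Nat.card H ≤ Nat.card K := by
  obtain ⟨m, hm⟩ := card_dvd_of_le h
  have h0 : 0 < Nat.card K := Nat.card_pos
  rcases m with _ | _ | m
  · omega
  · exact absurd (eq_of_le_of_card_ge h (by omega)).ge k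
  · rw [hm]; nlinarith

theorem del4 {A : Type u} [CommGroup A] (f : A →* A) {z : A} (hz : z * z = 1) (d : A → A)
    (hd : ∀ m, d m = m⁻¹ * f m) (h : d (d (d (d z))) = 1) : f (f (f (f z))) = z := by
  have k : ∀ m, m * m = 1 → d (d m) = m * f (f m) := fun m hm => by
    have : (f m)⁻¹ = f m := by rw [inv_eq_iff_mul_eq_one, ← map_mul, hm, map_one]
    rw [hd, hd, map_mul, map_inv, mul_inv_rev, inv_inv, mul_comm _ m, mul_assoc, ← mul_assoc (f m)⁻¹]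
    nth_rewrite 2 [this]
    rw [inv_mul_cancel, one_mul]
  have h2 : f (f z) * f (f z) = 1 := by rw [← map_mul, ← map_mul, hz, map_one, map_one]
  rw [k z hz, k _ (by rw [mul_mul_mul_comm, hz, h2, mul_one]), map_mul, map_mul, mul_assoc,
    ← mul_assoc (f (f z)), h2, one_mul] at h
  exact mul_left_cancel (h.trans hz.symm)

variable [Finite G] [Finite V]

theorem exInv {u v : V} {z : G} (hz : z ∈ Z G 2 u v) (h : z ≠ 1) : ∃ y ∈ Z G 2 u v, y ≠ 1 ∧ y * y = 1 := by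
  obtain ⟨k, hk⟩ := U_p u v ⟨z, hz.1⟩
  replace hk : z ^ 2 ^ k = 1 := congrArg Subtype.val hk
  induction k with
  | zero => exact absurd (by simpa using hk) h
  | succ k ih =>
    by_cases c : z ^ 2 ^ k = 1
    · exact ih c
    · exact ⟨_, pow_mem hz _, c, by rw [← pow_add, ← hk]; congr 1; ring⟩

theorem SP.he (P : SP G E 2 n) {v u : V} (e : E v u) (h : ¬ Reg G E 2 v) :
    pd E v u = 8 ∧ UI G E v u ∧ ∃ g ∈ U G 2 u v, ∀ w, E v w → w ≠ u → g ^ 4 • w ≠ w := by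
  let : MulAction (stabilizer G v) {w // E v w} :=
    { smul := fun g w => ⟨(g : G) • w, P.einv' g.2 w.2⟩
      one_smul := fun w => Subtype.ext (one_smul G w.1)
      mul_smul := fun a b w => Subtype.ext (mul_smul (a : G) b w.1) }
  have val : ∀ (g : stabilizer G v) (w : {w // E v w}), (g • w).1 = (g : G) • w.1 := fun _ _ => rfl
  rcases H9.BpHE.jobHE (stabilizer G v) {w // E v w} ⟨u, e⟩ ((U G 2 u v).subgroupOf _)
    ((U_p u v).comap_subtype) (fun a ha => Subtype.ext (U.l ha))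
    (fun g hg a ha => U_cj' (congrArg Subtype.val hg) g.2 ha)
    (fun y z hy hz => by
      obtain ⟨g, hg, k⟩ := P.Utr e y.2 z.2 (fun c => hy (Subtype.ext c)) (fun c => hz (Subtype.ext c))
      exact ⟨⟨g, U.r hg⟩, hg, Subtype.ext k⟩)
    (fun y => by
      obtain ⟨g, g1, g2⟩ := P.tr2 e y.2
      exact ⟨⟨g, g1⟩, Subtype.ext g2⟩) with k | ⟨k1, k2, g, hg, k3⟩
  · obtain ⟨y, ey, hy, -⟩ := P.third e e
    exact absurd (P.reg_of' ey e hy fun s hs z ez => congrArg Subtype.val (k ⟨s, U.r hs.1⟩ hs.1 ⟨y, ey⟩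
      (fun c => hy (congrArg Subtype.val c)) (Subtype.ext hs.2) ⟨z, ez⟩)) h
  refine ⟨?_, fun a b a1 b1 a2 b2 a3 b3 a4 b4 w ew => congrArg Subtype.val (k2 ⟨a, a1⟩ ⟨b, b1⟩
    (Subtype.ext a2) (Subtype.ext b2) (fun z => Subtype.ext (by rw [val, val, ← mul_smul, a3, one_smul]))
    (fun z => Subtype.ext (by rw [val, val, ← mul_smul, b3, one_smul]))
    (fun y hy c => a4 y y.2 (fun d => hy (Subtype.ext d)) (congrArg Subtype.val c))
    (fun y hy c => b4 y y.2 (fun d => hy (Subtype.ext d)) (congrArg Subtype.val c)) ⟨w, ew⟩),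
    g, hg, fun w ew hw c => k3 ⟨w, ew⟩ (fun d => hw (congrArg Subtype.val d)) (Subtype.ext c)⟩
  classical
  have := Nat.card_congr (Equiv.optionSubtypeNe (⟨u, e⟩ : {w // E v w}))
  rw [k1, Finite.card_option, Nat.card_congr ((Equiv.subtypeEquivRight (q := fun w => w.1 ≠ u) fun w => by
    simp [Subtype.ext_iff]).trans (Equiv.subtypeSubtypeEquivSubtypeInter _ (· ≠ u)))] at this
  exact Nat.succ_injective this

namespace SP

variable (P : SP G E 2 8)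
include P

omit [Finite G] [Finite V] in
theorem cm8 {a b : G} (ha : a ∈ Bl G E 3 (P.x 1)) (hb : b ∈ Bl G E 3 (P.x 4)) : b * a = a * b := by
  have := P.Bl_triv (cjc' (P.Bl_cj' (P.Bl_fx hb 1 (by omega)) ha) ha)
    (cjc (P.Bl_cj' (inv_fix (P.Bl_fx ha 4 (by omega))) hb) hb) (by omega) (by omega) (by omega)
  calc b * a = a * (a⁻¹ * b * a * b⁻¹) * b := by group
    _ = _ := by rw [this, mul_one]

omit [Finite G] [Finite V] in
theorem act8 {u v : V} (e : E u v) (h : Act G E 2 3 u) : ¬ Act G E 2 3 v := fun h' => by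
  obtain ⟨R, rfl, rfl⟩ := P.exP e 1
  have e0 : E (R.x 1) (R.x 0) := R.ex (by omega)
  obtain ⟨z, hz, z1⟩ := h _ e0
  obtain ⟨b, hb, b1⟩ := P.act2 h' (R.ex (i := 3) (by omega)) (R.ex (j := 4) (by omega)) (R.x 5)
    (R.ex (by omega))
  have b2 : b • R.x 0 ≠ R.x 0 := fun k => b1 ((R.sh 4).ZB (k := 3) (by omega) (Z.sy hb) k)
  have b3 := P.lemA (k := 3) (by omega) (R.ex (by omega)) (Z.sy hb)
  refine z1 (P.ZBv (by omega) e0 (P.einv' (R.Bl_fx b3 1 (by omega)) e0) b2 hz ?_)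
  simpa [R.cm8 (P.lemA (k := 3) (by omega) e0 (Z.sy hz)) b3] using
    P.Bl_cj b (P.lemA (k := 3) (by omega) (P.esym e0) hz)

omit [Finite G] [Finite V] in
theorem in8 {v w : V} (h : Act G E 2 3 v) (e : E v w) {z : G} (hz : z ∈ Z G 2 w v) : z ∈ Bl G E 4 w := by
  by_contra c
  exact P.act8 e h (P.act_of (P.esym e) (Z.sy hz) c)

omit [Finite V] in
theorem MB8 {m : G} (h : m ∈ M G E 2 (P.x 1)) (h' : m ∈ Bl G E 1 (P.x 4)) : m ∈ Bl G E 3 (P.x 2) := by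
  have b := P.MB (k := 3) (by omega) h
  refine P.MM (P.ex (by omega)) (P.ex (j := 3) (by omega)) (P.nx (by omega)) h (Bl.pred b) ?_
  refine P.spread (u := P.x 2) (P.Bl_fx b _ (by omega)) (P.Bl_x b _ _ (by omega)) h' fun y e hy => ?_
  obtain ⟨q, q1, -, k⟩ := P.T2 (a := P.x 1) (y := P.x 4) (P.ex (by omega)) (P.ex (by omega))
    (P.nx (by omega)) (P.ex (by omega)) e (P.nx (by omega)) hy
  exact ⟨q, P.MC h q1, k⟩

/-- The middle group. -/
def A8 (i : ℤ) : Subgroup G := M G E 2 (P.x i) ⊓ (Bl G E 3 (P.x (i - 1)) ⊓ Bl G E 3 (P.x (i + 1)))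

theorem small8 (h : Act G E 2 3 (P.x 1)) (ht : 3 ≤ pd E (P.x 1) (P.x 2)) :
    Nat.card (P.A8 1) + 2 ≤ pd E (P.x 1) (P.x 2) := by
  have e0 : E (P.x 1) (P.x 0) := P.ex (by omega)
  have free : ∀ b ∈ P.A8 5, ∀ y, E (P.x 1) y → y ≠ P.x 2 → b • y = y → b = 1 := fun b hb y e hy k => by
    obtain ⟨R, r1, r2⟩ := P.ext (i := 1) e hy
    have b4 : b ∈ Bl G E 3 (R.x 4) := by rw [r2 _ (by omega) (by omega)]; exact hb.2.1
    have b6 : b ∈ Bl G E 3 (R.x 6) := by rw [r2 _ (by omega) (by omega)]; exact hb.2.2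
    refine R.triv 0 4 (fun j a c => ?_) (R.Bl_x b4 _ _ (by omega)) (R.Bl_x b4 _ _ (by omega))
    rcases a.eq_or_lt with rfl | a
    · exact r1 ▸ k
    · by_cases f : j ≤ 7
      · exact R.Bl_fx b4 _ (by omega)
      · exact R.Bl_fx b6 _ (by omega)
  have fx : ∀ b ∈ P.A8 5, ∀ y : {w // E (P.x 1) w ∧ w ≠ P.x 2}, E (P.x 1) (b • y.1) ∧ b • y.1 ≠ P.x 2 :=
    fun b hb ⟨y, h1, h2⟩ => ⟨P.einv' (P.Bl_fx hb.2.1 _ (by omega)) h1, by
      show b • y ≠ _
      rw [← P.Bl_fx hb.2.1 2 (by omega), Ne, smul_left_cancel_iff]; exact h2⟩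
  obtain ⟨r, hr⟩ := P.rot 2
  have c0 : Nat.card (P.A8 1) ≤ Nat.card (P.A8 5) :=
    Nat.card_le_card_of_injective (fun a => ⟨r * a * r⁻¹, by
      simpa [hr] using P.M_cj r a.2.1, by simpa [hr] using P.Bl_cj r a.2.2.1,
      by simpa [hr] using P.Bl_cj r a.2.2.2⟩) fun a b k => Subtype.ext (by simpa using congrArg Subtype.val k)
  by_cases c : ∀ y, E (P.x 1) y → y ≠ P.x 2 → ∃ b ∈ P.A8 5, b • P.x 0 = y
  · suffices P.A8 1 = ⊥ by rw [this, card_bot]; exact ht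
    refine (eq_bot_iff_forall _).2 fun a ha => ?_
    by_contra a1
    have a3 := P.MB (k := 3) (by omega) ha.1
    obtain ⟨z, hz, z1, z2⟩ := exZ (u := P.x 0) (v := P.x 1) (N := M G E 2 (P.x 1) ⊓ Bl G E 4 (P.x 1))
      (fun t ht => U.sy (P.QU (P.MQ ht.1) e0))
      (fun r hr t ht => ⟨P.M_cj' (U.r hr) ht.1, P.Bl_cj' (U.r hr) ht.2⟩) (a := a)
      ⟨ha.1, P.spread (Bl.fix a3) ha.2.2 ha.2.1 fun y e hy => by
        obtain ⟨b, hb, k⟩ := c y e hy
        exact ⟨b, P.cm8 a3 hb.2.1, k⟩⟩ a1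
    exact z1 (P.triv1 e0 hz.2 (P.in8 h e0 z2) (by omega) (by omega))
  push Not at c
  obtain ⟨y, ey, hy, c⟩ := c
  by_cases d : P.A8 5 = ⊥
  · rw [d, card_bot] at c0; omega
  obtain ⟨b, hb, b1⟩ := (P.A8 5).bot_or_exists_ne_one.resolve_left d
  have x0 : E (P.x 1) (P.x 0) ∧ P.x 0 ≠ P.x 2 := ⟨e0, P.nx (by omega)⟩
  let f : Option (Option (P.A8 5)) → {w // E (P.x 1) w ∧ w ≠ P.x 2}
    | none => ⟨y, ey, hy⟩
    | some none => ⟨_, fx b hb ⟨y, ey, hy⟩⟩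
    | some (some a) => ⟨_, fx a a.2 ⟨_, x0⟩⟩
  have n1 : ∀ a : P.A8 5, (a : G) • P.x 0 ≠ b • y := fun a k =>
    c _ (mul_mem (inv_mem hb) a.2) (by rw [mul_smul, k, inv_smul_smul])
  have := Nat.card_le_card_of_injective f (by
    rintro (_ | _ | a) (_ | _ | a') k <;> have k := congrArg Subtype.val k
    · rfl
    · exact absurd (free b hb y ey hy k.symm) b1
    · exact absurd k.symm (c _ a'.2)
    · exact absurd (free b hb y ey hy k) b1
    · rfl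
    · exact absurd k.symm (n1 _)
    · exact absurd k (c _ a.2)
    · exact absurd k (n1 _)
    · rw [Subtype.ext (inv_mul_eq_one.1 (free _ (mul_mem (inv_mem a.2) a'.2) _ e0 x0.2
        (by rw [mul_smul, inv_smul_eq_iff]; exact k.symm)))])
  rw [Finite.card_option, Finite.card_option] at this
  exact le_trans (by omega) this

omit [Finite V] in
theorem uniq8 (h : Act G E 2 3 (P.x 1)) (hU : UI G E (P.x 4) (P.x 3)) {w w' : V} (e : E (P.x 1) w)
    (e' : E (P.x 1) w') (hw : w ≠ P.x 2) (hw' : w' ≠ P.x 2) {a b : G} (ha : a ∈ Z G 2 w (P.x 1))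
    (hb : b ∈ Z G 2 w' (P.x 1)) (a1 : a ≠ 1) (b1 : b ≠ 1) (a2 : a * a = 1) (b2 : b * b = 1) :
    a * b ∈ Bl G E 3 (P.x 2) := by
  have k : ∀ {w : V} {a : G}, E (P.x 1) w → w ≠ P.x 2 → a ∈ Z G 2 w (P.x 1) → a ≠ 1 →
      ∀ y, E (P.x 4) y → y ≠ P.x 3 → a • y ≠ y := fun {w a} e hw ha a1 y ey hy c => by
    obtain ⟨R, r1, r2⟩ := P.ext (i := 1) e hw
    obtain ⟨S, s1, s2⟩ := R.ext' (i := 4) (w := y) (by rwa [r2 _ (by omega) (by omega)])
      (by rwa [r2 _ (by omega) (by omega)])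
    refine a1 (S.Bl_triv (i := 0) (j := 4 + 1) (k := 4) (l := 0) ?_ (by rwa [s1]) (by omega) (by omega)
      (by omega))
    rw [s2 _ (by omega) (by omega)]
    exact r1 ▸ P.in8 h e ha
  have a3 := P.MB (k := 3) (by omega) (ZM e ha)
  have b3 := P.MB (k := 3) (by omega) (ZM e' hb)
  refine P.MB8 (mul_mem (ZM e ha) (ZM e' hb)) (mem_Bl1.2 ⟨P.Bl_fx (mul_mem a3 b3) _ (by omega), fun y ey => ?_⟩)
  rw [mul_smul, ← hU a b (P.Bl_fx a3 _ (by omega)) (P.Bl_fx b3 _ (by omega)) (P.Bl_fx a3 _ (by omega))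
    (P.Bl_fx b3 _ (by omega)) a2 b2 (k e hw ha a1) (k e' hw' hb b1) y ey, ← mul_smul, a2, one_smul]

theorem reg8a (hd : ∀ u v, E u v → pd E u v = 8 → pd E v u ≠ 2) (h : Act G E 2 3 (P.x 1)) :
    Reg G E 2 (P.x 2) := by
  by_contra c
  have e0 : E (P.x 1) (P.x 0) := P.ex (by omega)
  have e2 : E (P.x 1) (P.x 2) := P.ex (by omega)
  have U4 := (P.he (P.ex (i := 4) (j := 3) (by omega)) fun k => c (P.regk k 2 (by omega))).2.1
  have U2 := (P.he (P.ex (i := -2) (j := -1) (by omega)) fun k => c (P.regk k 2 (by omega))).2.1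
  have t3 : 3 ≤ pd E (P.x 1) (P.x 2) := by
    have := hd _ _ (P.esym e2) (P.he (P.esym e2) c).1
    obtain ⟨y, ey, h1, h2⟩ := P.third e2 e0
    have : 1 < pd E (P.x 1) (P.x 2) := Finite.one_lt_card_iff_nontrivial.2
      ⟨⟨y, ey, h1⟩, ⟨_, e0, P.nx (by omega)⟩, fun k => h2 (congrArg Subtype.val k)⟩
    omega
  obtain ⟨z, hz, z1⟩ := P.Zne (P.esym e0)
  obtain ⟨z, hz, z1, z2⟩ := exInv hz z1
  have : ∀ w, E (P.x 1) w → ∃ a ∈ Z G 2 w (P.x 1), a ≠ 1 ∧ a * a = 1 := fun w e => by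
    obtain ⟨g, g1, rfl⟩ := P.tr2 e0 e
    exact ⟨g * z * g⁻¹, by simpa [g1] using Z_cj g hz, by simpa using z1, by simpa using z2⟩
  choose! a a0 a1 a2 using this
  have mem : ∀ w, E (P.x 1) w → w ≠ P.x 2 → w ≠ P.x 0 → a (P.x 0) * a w * a (P.x 2) ∈ P.A8 1 :=
    fun w e w2 w0 => ⟨mul_mem (mul_mem (ZM e0 (a0 _ e0)) (ZM e (a0 _ e))) (ZM e2 (a0 _ e2)), by
      rw [mul_assoc]
      refine mul_mem (Bl.pred (P.in8 h e0 (a0 _ e0))) ?_
      simpa using (P.re 2).uniq8 (w := w) (w' := P.x 2) (by simpa using h) (by simpa using U2)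
        (by simpa using e) (by simpa using e2) (by simpa using w0) (by simpa using P.nx (by omega))
        (by simpa using a0 _ e) (by simpa using a0 _ e2) (a1 _ e) (a1 _ e2) (a2 _ e) (a2 _ e2),
      mul_mem (P.uniq8 h U4 e0 e (P.nx (by omega)) w2 (a0 _ e0) (a0 _ e) (a1 _ e0) (a1 _ e) (a2 _ e0)
        (a2 _ e)) (Bl.pred (P.in8 h e2 (a0 _ e2)))⟩
  classical
  have := Nat.card_le_card_of_injective (fun w : {w // E (P.x 1) w ∧ w ≠ P.x 2} =>
    if k : w.1 = P.x 0 then none else some (⟨_, mem w w.2.1 w.2.2 k⟩ : P.A8 1)) fun w w' k => by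
      by_cases c1 : w.1 = P.x 0 <;> by_cases c2 : w'.1 = P.x 0 <;> simp only [c1, c2, dite_true, dite_false] at k
      · exact Subtype.ext (c1.trans c2.symm)
      · cases k
      · cases k
      · have k1 : a w = a w' := by simpa using k
        by_contra d
        exact a1 _ w.2.1 (P.triv2 w.2.1 w'.2.1 (fun k => d (Subtype.ext k)) (P.in8 h w.2.1 (a0 _ w.2.1))
          (k1 ▸ P.in8 h w'.2.1 (a0 _ w'.2.1)) (by omega) (by omega))
  rw [Finite.card_option] at this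
  have := P.small8 h t3
  unfold pd at *
  omega

omit [Finite V] in
theorem com8 (h : Reg G E 2 (P.x 4)) {g z : G} (hg : g ∈ U G 2 (P.x 2) (P.x 1))
    (hz : z ∈ Z G 2 (P.x 0) (P.x 1)) : z⁻¹ * g * z * g⁻¹ ∈ Bl G E 1 (P.x 4) := by
  have e0 : E (P.x 1) (P.x 0) := P.ex (by omega)
  obtain ⟨q, hq, k⟩ := P.K2 (i := 1) (k := 9) (y := g • P.x 0) (by omega) (P.einv' (U.r hg) e0) (by
    show _ ≠ P.x 2
    rw [← U.l hg, Ne, smul_left_cancel_iff]; exact P.nx (by omega))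
  have s := P.chain (P.ex (by omega)) e0 (P.nx (by omega)) (mul_mem (inv_mem (U.sy hq.1)) hg)
    (by rw [mul_smul, ← k, inv_smul_eq_iff]; rfl)
  have q4 := Pp.U hq 3 4 rfl (by omega) (by omega)
  obtain ⟨r, hr, k'⟩ := P.K2' (i := 0) (k := 4) (y := q • P.x 5) (by omega) (by omega)
    (P.einv' (U.r q4) (P.ex (by omega))) (by
      show _ ≠ P.x 3
      rw [← U.l q4, Ne, smul_left_cancel_iff]; exact P.nx (by omega))
  have t := h _ (P.x 5) (P.ex (by omega)) (P.ex (by omega)) (P.nx (by omega)) _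
    (mul_mem (inv_mem (Pp.U hr 3 4 rfl (by omega) le_rfl)) q4) (by rw [mul_smul, ← k', inv_smul_eq_iff]; rfl)
  have := P.Bl_cj' (Pp.fix hr 4 (by omega) le_rfl) (cjc (P.Bl_cj' (inv_fix (P.Bl_fx
    (P.lemA (k := 3) (by omega) e0 (Z.sy hz)) 4 (by omega))) t) t)
  convert this using 1
  have e1 := Z.com hz (U.sy s)
  have e2 := Z.com (inv_mem hz) hr.1
  calc z⁻¹ * g * z * g⁻¹ = z⁻¹ * q * (q⁻¹ * g * z) * g⁻¹ := by group
    _ = z⁻¹ * r * (r⁻¹ * q) * z * q⁻¹ := by rw [e1]; group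
    _ = _ := by rw [← e2]; group

omit [Finite V] in
theorem dec8 (h : Reg G E 2 (P.x 4)) {m : G} (hm : m ∈ M G E 2 (P.x 1)) :
    ∃ z ∈ Z G 2 (P.x 0) (P.x 1), z⁻¹ * m ∈ Bl G E 3 (P.x 2) := by
  have e0 : E (P.x 1) (P.x 0) := P.ex (by omega)
  obtain ⟨z, hz, k⟩ := P.Mdec (w := P.x 2) (W := Bl G E 1 (P.x 4)) e0
    (fun z hz => P.Bl_x (P.lemA (k := 3) (by omega) (P.ex (by omega)) hz) _ _ (by omega)) (fun y e hy => by
      obtain ⟨q, hq, k⟩ := P.Utr (P.ex (by omega)) e0 e (P.nx (by omega)) hy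
      exact ⟨q, U.r hq, k, fun z hz => P.com8 h hq hz⟩) hm
  exact ⟨z, hz, P.MB8 (mul_mem (inv_mem (ZM e0 hz)) hm) k⟩

theorem reg8b (h : Act G E 2 3 (P.x 1)) (hr : Reg G E 2 (P.x 2)) : Reg G E 2 (P.x 1) := by
  by_contra c
  have e0 : E (P.x 1) (P.x 0) := P.ex (by omega)
  have e2 : E (P.x 1) (P.x 2) := P.ex (by omega)
  obtain ⟨t8, -, g, hg, g4⟩ := P.he e2 c
  have sm := P.small8 h (by omega)
  obtain ⟨z, hz, z1⟩ := P.Zne (P.esym e0)
  obtain ⟨z, hz, z1, z2⟩ := exInv hz z1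
  let : CommGroup (M G E 2 (P.x 1)) := { mul_comm := fun a b => Subtype.ext (P.Mcom a.2 b.2) }
  let f : M G E 2 (P.x 1) →* M G E 2 (P.x 1) :=
    MonoidHom.mk' (fun a => ⟨g * a * g⁻¹, P.M_cj' (U.r hg) a.2⟩) fun a b => Subtype.ext (by simp)
  let d : M G E 2 (P.x 1) →* M G E 2 (P.x 1) := (MonoidHom.id _)⁻¹ * f
  have dv : ∀ a, (d a : G) = (a : G)⁻¹ * g * a * g⁻¹ := fun a => by simp [d, f, mul_assoc]
  let W := (Bl G E 3 (P.x 2)).subgroupOf (M G E 2 (P.x 1))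
  let Z1 := (Z G 2 (P.x 2) (P.x 1)).subgroupOf (M G E 2 (P.x 1))
  have dZ : ∀ a ∈ Z1, d a = 1 := fun a ha => Subtype.ext (by
    rw [dv, mul_assoc _ g, Z.com (z := (a : G)) (mem_subgroupOf.1 ha) hg]; simp)
  have ZW : Z1 ≤ W := fun a ha => mem_subgroupOf.2 (P.lemA (by omega) (P.esym e2) ha)
  have dW : ∀ a ∈ W, d a ∈ W := fun a ha => by
    show (d a : G) ∈ Bl G E 3 (P.x 2)
    rw [dv]; exact cjc' (P.Bl_cj' (U.l hg) ha) ha
  have step : ∀ X : Subgroup (M G E 2 (P.x 1)), ¬ W ≤ X → ¬ W ⊓ X.comap d ≤ X := fun X k k' => by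
    obtain ⟨a, a1, a2, a3⟩ := T0 (p := 2) (A := W.map (Subgroup.subtype _)) (W := X.map (Subgroup.subtype _))
      (R := U G 2 (P.x 2) (P.x 1)) ((Q_p (E := E) (P.x 1)).to_le (by rintro _ ⟨a, -, rfl⟩; exact P.MQ a.2))
      (U_p _ _) (by
        rintro r hr _ ⟨a, ha, rfl⟩
        exact ⟨⟨_, P.M_cj' (U.r hr) a.2⟩, mem_subgroupOf.2 (P.Bl_cj' (U.l hr) (mem_subgroupOf.1 ha)), rfl⟩)
      (by rwa [map_le_map_iff_of_injective (subtype_injective _)])
    obtain ⟨a, a1, rfl⟩ := a1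
    obtain ⟨b, b1, b2⟩ := (a3 g hg).2
    exact a2 ⟨a, k' ⟨a1, mem_comap.2 <| by rwa [show d a = b from Subtype.ext ((dv a).trans b2.symm)]⟩, rfl⟩
  have cW : Nat.card W ≤ Nat.card Z1 * Nat.card (P.A8 1) := by
    have : ∀ a : W, ∃ y : Z1, (y : G)⁻¹ * a ∈ P.A8 1 := fun a => by
      obtain ⟨y, hy, k⟩ := (P.re 2).dec8 (m := a) (by simpa using P.regk hr (-2) (by omega)) (by simp)
      simp only [re_x] at hy k
      exact ⟨⟨⟨y, ZM e2 hy⟩, hy⟩, mem_inf.2 ⟨mul_mem (inv_mem (ZM e2 hy)) a.1.2, mem_inf.2 ⟨k,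
        mul_mem (inv_mem (P.lemA (k := 3) (by omega) (P.esym e2) hy)) (mem_subgroupOf.1 a.2)⟩⟩⟩
    choose y hy using this
    rw [← Nat.card_prod]
    exact Nat.card_le_card_of_injective (fun a => (y a, (⟨_, hy a⟩ : P.A8 1))) fun a b k => by
      have k1 := congrArg Prod.fst k
      have k2 := congrArg (fun t => (t.2 : G)) k
      simp only at k1 k2
      rw [k1, mul_right_inj] at k2
      exact Subtype.ext (Subtype.ext k2)
  have le1 : Z1 ≤ W ⊓ Z1.comap d := fun a ha => ⟨ZW ha, mem_comap.2 <| by rw [dZ a ha]; exact one_mem _⟩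
  have le2 : W ⊓ Z1.comap d ≤ W ⊓ (W ⊓ Z1.comap d).comap d := fun a ha => ⟨ha.1, le1 ha.2⟩
  have key : W ≤ W ⊓ (W ⊓ Z1.comap d).comap d := by
    by_contra k
    have k1 : ¬ W ≤ W ⊓ Z1.comap d := fun k' => k (k'.trans le2)
    have := dbl inf_le_left k
    have := dbl le2 (step _ k1)
    have := dbl le1 (step _ fun k' => k1 (k'.trans le1))
    have : 0 < Nat.card Z1 := Nat.card_pos
    nlinarith
  have w1 : d ⟨z, ZM e0 hz⟩ ∈ W := mem_subgroupOf.2 (P.MB8 (d _).2 (by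
    rw [dv]; exact P.com8 (P.regk hr 4 (by omega)) hg hz))
  have := congrArg Subtype.val (del4 f (z := ⟨z, ZM e0 hz⟩) (Subtype.ext z2) d (fun _ => rfl)
    (dZ _ (key w1).2.2))
  have k : g ^ 4 * z * (g ^ 4)⁻¹ = z := by
    refine Eq.trans ?_ this
    simp only [f, MonoidHom.mk'_apply, pow_succ, pow_zero]
    group
  exact z1 (P.triv2 e0 (P.einv' (U.r (pow_mem hg 4)) e0) (g4 _ e0 (P.nx (by omega))).symm (P.in8 h e0 hz)
    (k ▸ P.Bl_cj _ (P.in8 h e0 hz)) (by omega) (by omega))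

theorem reg8 (hd : ∀ u v, E u v → pd E u v = 8 → pd E v u ≠ 2) (i : ℤ) : Reg G E 2 (P.x i) := by
  rcases P.act_or (k := 3) (by omega) le_rfl (P.ex (i := i) (j := i + 1) (by omega)) with h | h
  · simpa using (P.sh (i - 1)).reg8b (by simpa using h) ((P.sh (i - 1)).reg8a hd (by simpa using h))
  · simpa using (P.re (i + 2)).reg8a hd (by rwa [re_x, P.xe (by ring : i + 2 - 1 = i + 1)])

end SP

end H12.BP
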