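/- A nilpotent normal supplement of the torus is a group of prime power order. -/
import Cfsg.Agent.H12.BP8
import Cfsg.Agent.H26.NilpComm

set_option autoImplicit false

namespace H12.BP

open Subgroup MulAction Cfsg

universe u

theorem nil_mem {T : Type u} [Group T] [Finite T] [Group.IsNilpotent T] (K : Subgroup T) {q : ℕ}
    (hq : q.Prime) (h : ¬ q ∣ K.index) {g : T} {k : ℕ} (hg : g ^ q ^ k = 1) : g ∈ K := by
  have := Fact.mk hq
  obtain ⟨S, hS⟩ := (IsPGroup.of_card_dvd_pow (G := zpowers g) (n := k) (by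
    rw [Nat.card_zpowers]; exact orderOf_dvd_of_pow_eq_one hg)).exists_le_sylow
  have hN : (S : Subgroup T).Normal := Sylow.normal_of_normalizerCondition Group.normalizerCondition_of_isNilpotent S
  obtain ⟨x, hx⟩ := S.isPGroup'.nonempty_fixed_point_of_prime_not_dvd_card (T ⧸ K) h
  obtain ⟨t, rfl⟩ := QuotientGroup.mk_surjective x
  have : ((t * g⁻¹ * t⁻¹ * t : T) : T ⧸ K) = t := hx ⟨_, hN.conj_mem _ (inv_mem (hS (mem_zpowers g))) t⟩
  simpa using QuotientGroup.eq.1 this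

theorem exists_out {T : Type u} [Group T] [Finite T] (K : Subgroup T) {q : ℕ} (hq : q.Prime)
    (h : q ∣ K.index) : ∃ g, g ∉ K ∧ ∃ k, g ^ q ^ k = 1 := by
  have := Fact.mk hq
  obtain ⟨S⟩ : Nonempty (Sylow q T) := inferInstance
  obtain ⟨g, hg, k⟩ := SetLike.not_le_iff_exists.1 fun c : (S : Subgroup T) ≤ K =>
    S.not_dvd_index (h.trans (index_dvd_of_le c))
  obtain ⟨m, hm⟩ := S.isPGroup' ⟨g, hg⟩
  exact ⟨g, k, m, congrArg Subtype.val hm⟩

variable {n : ℕ} {G V : Type u} [Group G] [MulAction G V] {E : V → V → Prop}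

/-- A normal supplement of the torus in the stabiliser of the base edge. -/
structure Sup (P : Pol n G E) (A : Subgroup G) : Prop where
  f0 : ∀ u ∈ A, u • P.x 0 = P.x 0
  f1 : ∀ u ∈ A, u • P.x 1 = P.x 1
  nor : ∀ b : G, b • P.x 0 = P.x 0 → b • P.x 1 = P.x 1 → ∀ u ∈ A, b * u * b⁻¹ ∈ A
  sup : ∀ b : G, b • P.x 0 = P.x 0 → b • P.x 1 = P.x 1 → ∃ u ∈ A, ∀ j, b • P.x j = u • P.x j

namespace Sup

variable {P : Pol n G E} {A : Subgroup G}

theorem re (h : Sup P A) : Sup (P.re 1) A :=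
  ⟨by simpa using h.f1, by simpa using h.f0, fun b h0 h1 => h.nor b (by simpa using h1) (by simpa using h0),
    fun b h0 h1 => by
      obtain ⟨u, hu, k⟩ := h.sup b (by simpa using h1) (by simpa using h0)
      exact ⟨u, hu, fun j => by simpa using k _⟩⟩

variable (P A) in
/-- Stabiliser of an initial path. -/
def FI (k : ℤ) : Subgroup A where
  carrier := {g | ∀ j, 0 ≤ j → j ≤ k → (g : G) • P.x j = P.x j}
  mul_mem' a b := fun j c d => mul_fix (a j c d) (b j c d)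
  one_mem' := fun _ _ _ => one_smul _ _
  inv_mem' a := fun j c d => inv_fix (a j c d)

theorem idx (h : Sup P A) {k : ℤ} (h1 : 1 ≤ k) (hk : k ≤ n) :
    (stabilizer (FI P A k) (P.x (k + 1))).index = pd E (P.x k) (P.x (k - 1)) := by
  rw [index_stabilizer, pd, ← Nat.card_coe_set_eq]
  refine Nat.card_congr (Equiv.subtypeEquivRight fun w => ⟨?_, fun ⟨e, hw⟩ => ?_⟩)
  · rintro ⟨g, rfl⟩
    refine ⟨P.einv' (g.2 _ (by omega) le_rfl) (P.ex (by omega)), fun c => P.nx (i := k + 1) (by omega)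
      (MulAction.injective (g : G) (c.trans (g.2 (k - 1) (by omega) (by omega)).symm))⟩
  · obtain ⟨t, t1, t2⟩ := P.tr'' e hw
    obtain ⟨u, hu, k⟩ := h.sup t (t1 _ (by omega) (by omega)) (t1 _ (by omega) h1)
    exact ⟨⟨⟨u, hu⟩, fun j a b => by rw [← k, t1 j (by omega) b]⟩, (k _).symm.trans t2⟩

theorem idx0 (h : Sup P A) : (stabilizer (FI P A n) (P.x (n + 1))).index = pd E (P.x 0) (P.x 1) := by
  have h3 := P.three
  have : stabilizer (FI P A n) (P.x (n + 1)) = stabilizer (FI P A n) (P.x (0 - 1)) := by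
    ext g
    constructor <;> intro k
    · refine P.all (g := g) 0 (fun j a b => ?_) _
      by_cases c : j ≤ n
      · exact g.2 j a c
      · rw [P.xe (by omega : j = n + 1)]; exact k
    · refine P.all (g := g) (0 - 1) (fun j a b => ?_) _
      by_cases c : 0 ≤ j
      · exact g.2 j c (by omega)
      · rw [P.xe (by omega : j = 0 - 1)]; exact k
  rw [this, index_stabilizer, pd, ← Nat.card_coe_set_eq]
  refine Nat.card_congr (Equiv.subtypeEquivRight fun w => ⟨?_, fun ⟨e, hw⟩ => ?_⟩)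
  · rintro ⟨g, rfl⟩
    refine ⟨P.einv' (g.2 _ le_rfl (by omega)) (P.ex (by omega)), fun c => P.nx (i := 0 - 1) (by omega)
      (MulAction.injective (g : G) (c.trans (g.2 1 (by omega) (by omega)).symm))⟩
  · obtain ⟨t, t1, t2⟩ := P.tr' e hw
    obtain ⟨u, hu, k⟩ := h.sup t (t1 _ le_rfl (by omega)) (t1 _ (by omega) (by omega))
    exact ⟨⟨⟨u, hu⟩, fun j a b => by rw [← k, t1 j a (by omega)]⟩, (k _).symm.trans t2⟩

variable [Finite G] [Finite V]

omit [Finite G] in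
theorem pd2 (P : Pol n G E) {u v : V} (e : E u v) : 1 < pd E u v := by
  obtain ⟨y, ey, hy, -⟩ := P.third e e
  obtain ⟨z, ez, hz, h⟩ := P.third e ey
  exact Finite.one_lt_card_iff_nontrivial.2 ⟨⟨z, ez, hz⟩, ⟨y, ey, hy⟩, fun k => h (congrArg Subtype.val k)⟩

omit [Finite V] in
theorem step (h : Sup P A) (hA : Group.IsNilpotent A) {r : ℕ} (hr : r.Prime) {z : G} (hz : z ∈ A) {k : ℕ}
    (z1 : z ^ r ^ k = 1) (z2 : z • P.x 2 ≠ P.x 2) {q : ℕ} (hq : q.Prime) (d : q ∣ pd E (P.x 0) (P.x 1)) :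
    q = r := by
  have h3 := P.three
  by_contra c
  obtain ⟨y, e, hy, k1⟩ := (P.re 0).tri z (c := -n) (b := -1) (by simpa using h.f1 z hz) (by simpa using z2)
    (by omega) (by omega)
  simp only [Pol.re_x, zero_sub, neg_neg] at e hy k1
  obtain ⟨t, t1, t2⟩ := P.tr'' e (by rwa [P.xe (by ring : (n : ℤ) - 1 = -(-n + 1))])
  obtain ⟨u, hu, k2⟩ := h.sup t (t1 _ (by omega) (by omega)) (t1 _ (by omega) (by omega))
  obtain ⟨g, g1, m, g2⟩ := exists_out _ hq (h.idx0 ▸ d)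
  have g3 : (u * g * u⁻¹) ^ q ^ m = 1 := by
    rw [conj_pow, show (g : G) ^ q ^ m = 1 from congrArg (fun a : FI P A n => (a : G)) g2]; simp
  have := k1 (u * g * u⁻¹) (H26.commute_of_coprime_orderOf_of_mem hA (mul_mem (mul_mem hu g.1.2) (inv_mem hu))
    hz (((Nat.coprime_pow_primes m k hq hr c).coprime_dvd_left (orderOf_dvd_of_pow_eq_one g3)).coprime_dvd_right
      (orderOf_dvd_of_pow_eq_one z1))) fun i a b => by
    have f : u • P.x (-i) = P.x (-i) := by rw [← k2, t1 _ (by omega) (by omega)]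
    simpa [f] using cj_fix (g := u) (g.2 (-i) (by omega) (by omega))
  rw [← t2, k2, mul_smul, mul_smul, inv_smul_smul, smul_left_cancel_iff] at this
  exact g1 this

omit [Finite V] in
theorem out (h : Sup P A) {r : ℕ} (hr : r.Prime) (d : r ∣ pd E (P.x 1) (P.x 0)) :
    ∃ z ∈ A, (∃ k, z ^ r ^ k = 1) ∧ z • P.x 2 ≠ P.x 2 := by
  obtain ⟨g, g1, m, g2⟩ := exists_out _ hr (h.idx (k := 1) le_rfl (by have := P.three; omega) ▸ d)
  exact ⟨g, g.1.2, ⟨m, congrArg (fun a : FI P A 1 => (a : G)) g2⟩, g1⟩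

theorem pgroup (h : Sup P A) (hA : Group.IsNilpotent A) : ∃ r : ℕ, r.Prime ∧ IsPGroup r A := by
  have h3 := P.three
  have e0 : E (P.x 1) (P.x 0) := P.ex (by omega)
  obtain ⟨r, hr, d⟩ := Nat.exists_prime_and_dvd (pd2 P e0).ne'
  obtain ⟨z, hz, ⟨k, z1⟩, z2⟩ := h.out hr d
  have s0 := fun q hq => h.step hA hr hz z1 z2 (q := q) hq
  obtain ⟨r', hr', d'⟩ := Nat.exists_prime_and_dvd (pd2 P (P.esym e0)).ne'
  obtain rfl := s0 _ hr' d'
  obtain ⟨y, hy, ⟨k, y1⟩, y2⟩ := h.re.out hr (by simpa using d')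
  have s1 := fun q hq => h.re.step hA hr hy y1 y2 (q := q) hq
  have s2 : ∀ j q, q.Prime → q ∣ pd E (P.x j) (P.x (j - 1)) → q = r' := fun j q hq d => by
    obtain ⟨a, ha⟩ := P.rot ((1 - j) / 2)
    obtain ⟨b, hb⟩ := P.refl 0
    rcases Int.emod_two_eq_zero_or_one j with c | c
    · refine s0 q hq ?_
      rwa [pd, card_nb P (b * a), mul_smul, mul_smul, ha, ha, hb, hb, P.xe (j := 0) (by omega),
        P.xe (i := _ - _) (j := 1) (by omega)] at d
    · refine s1 q hq ?_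
      rw [pd, card_nb P a, ha, ha, P.xe (j := 1) (by omega), P.xe (i := _ + _) (j := 0) (by omega)] at d
      simpa [pd] using d
  have nx : ∀ {P : Pol n G E}, Sup P A → (∀ j q, q.Prime → q ∣ pd E (P.x j) (P.x (j - 1)) → q = r') →
      ∀ {q m : ℕ} {g : G}, q.Prime → q ≠ r' → g ∈ A → g ^ q ^ m = 1 → ∀ j : ℤ, 1 ≤ j → j ≤ n →
      (∀ i, 0 ≤ i → i ≤ j → g • P.x i = P.x i) → g • P.x (j + 1) = P.x (j + 1) :=
    fun h s q m g hq c hg g1 j a b f => nil_mem (stabilizer (FI _ A j) _) hq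
      (fun d => c (s j q hq (h.idx a b ▸ d))) (g := ⟨⟨g, hg⟩, f⟩) (k := m) (Subtype.ext (Subtype.ext g1))
  have st : ∀ {P : Pol n G E}, Sup P A → (∀ j q, q.Prime → q ∣ pd E (P.x j) (P.x (j - 1)) → q = r') →
      ∀ {q m : ℕ} {g : G}, q.Prime → q ≠ r' → g ∈ A → g ^ q ^ m = 1 → g ∈ Bl G E 1 (P.x 1) :=
    fun {P} h s q m g hq c hg g1 => mem_Bl1.2 ⟨h.f1 g hg, fun w e => by
      by_cases d : w = P.x 0
      · rw [d, h.f0 g hg]
      obtain ⟨t, t1, rfl⟩ := P.tr'' e d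
      have t0 := inv_fix (t1 0 (by omega) (by omega))
      have t1 := inv_fix (t1 1 (by omega) le_rfl)
      have a := h.nor _ t0 t1 g hg
      have := nx h s hq c a (by rw [conj_pow, g1]; simp) 1 le_rfl (by omega) fun i a' b => by
        rcases a'.eq_or_lt with rfl | a'
        · exact h.f0 _ a
        · rw [P.xe (by omega : i = 1)]; exact h.f1 _ a
      rwa [inv_inv, mul_smul, mul_smul, inv_smul_eq_iff] at this⟩
  have := Fact.mk hr
  refine ⟨r', hr, IsPGroup.iff_card.2 ⟨_, Nat.eq_prime_pow_of_unique_prime_dvd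
    Nat.card_pos.ne' fun {q} hq d => ?_⟩⟩
  by_contra c
  have := Fact.mk hq
  obtain ⟨g, hg⟩ := exists_prime_orderOf_dvd_card' q d
  have g1 : (g : G) ^ q ^ 1 = 1 := by
    rw [pow_one, ← hg]; exact congrArg Subtype.val (pow_orderOf_eq_one g)
  have f : ∀ j : ℕ, j ≤ n → ∀ i : ℤ, 0 ≤ i → i ≤ j + 1 → (g : G) • P.x i = P.x i := fun j => by
    induction j with
    | zero =>
      intro _ i a b
      rcases a.eq_or_lt with rfl | a
      · exact h.f0 _ g.2
      · rw [P.xe (by omega : i = 1)]; exact h.f1 _ g.2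
    | succ j ih =>
      intro hj i a b
      by_cases c' : i ≤ j + 1
      · exact ih (by omega) i a c'
      · rw [P.xe (by omega : i = j + 1 + 1)]
        exact nx h s2 hq c g.2 g1 _ (by omega) (by omega) (ih (by omega))
  have s3 : ∀ j q, q.Prime → q ∣ pd E ((P.re 1).x j) ((P.re 1).x (j - 1)) → q = r' := fun j q hq d => by
    obtain ⟨b, hb⟩ := P.refl 0
    refine s2 (j - 1) q hq ?_
    rwa [Pol.re_x, Pol.re_x, pd, card_nb P b, hb, hb, P.xe (j := j - 1) (by omega),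
      P.xe (i := 2 * 0 - _) (j := j - 1 - 1) (by omega)] at d
  have := P.triv 0 0 (fun i a b => f n le_rfl i a (by omega)) (by simpa using st h.re s3 hq c g.2 g1)
    (st h s2 hq c g.2 g1)
  rw [show g = 1 from Subtype.ext this, orderOf_one] at hg
  exact hq.one_lt.ne hg

/-- The split polygon of a supplement of prime power order. -/
def toSP {p : ℕ} (h : Sup P A) (hp : IsPGroup p A) : SP G E p n where
  toPol := P
  spl i b h1 h2 := by
    have AU : A ≤ U G p (P.x 0) (P.x 1) := le_U hp (fun a ha => ⟨h.f0 a ha, h.f1 a ha⟩) h.nor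
    obtain ⟨a, ha⟩ := P.rot (i / 2)
    have k : ∀ c : G, (∀ j, ∃ j', c • P.x j' = P.x j) → b • c • P.x 0 = c • P.x 0 → b • c • P.x 1 = c • P.x 1 →
        ∃ u ∈ U G p (c • P.x 0) (c • P.x 1), ∀ j, b • P.x j = u • P.x j := fun c hc b0 b1 => by
      obtain ⟨u, hu, k⟩ := h.sup (c⁻¹ * b * c) (by rw [mul_smul, mul_smul, b0, inv_smul_smul])
        (by rw [mul_smul, mul_smul, b1, inv_smul_smul])
      refine ⟨_, U_cj c (AU hu), fun j => ?_⟩
      obtain ⟨j', e⟩ := hc j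
      rw [← e, mul_smul, mul_smul, inv_smul_smul, ← k]; simp [mul_smul]
    rcases Int.emod_two_eq_zero_or_one i with c | c
    · have := k a fun j => ⟨j - 2 * (i / 2), by rw [ha, sub_add_cancel]⟩
      rw [ha, ha, P.xe (j := i) (by omega), P.xe (i := 1 + _) (j := i + 1) (by omega)] at this
      exact this h1 h2
    · obtain ⟨s, hs⟩ := P.refl 1
      have := k (a * s) fun j => ⟨2 - (j - 2 * (i / 2)), by rw [mul_smul, hs, ha]; exact P.xe (by ring)⟩
      rw [mul_smul, mul_smul, hs, hs, ha, ha, P.xe (j := i + 1) (by omega),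
        P.xe (i := 2 * 1 - 1 + _) (j := i) (by omega), U_comm] at this
      exact this h2 h1

/-- The main theorem on split polygons. -/
theorem reg (h : Sup P A) (hA : Group.IsNilpotent A) (hn : n = 3 ∨ n = 4 ∨ n = 6 ∨ n = 8)
    (h8 : n = 8 → IsSquare (2 * pd E (P.x 0) (P.x 1) * pd E (P.x 1) (P.x 0))) :
    ∃ p : ℕ, p.Prime ∧ IsPGroup p A ∧ ∀ i, Reg G E p (P.x i) := by
  obtain ⟨p, hp, hA⟩ := h.pgroup hA
  have := Fact.mk hp
  refine ⟨p, hp, hA, fun i => ?_⟩
  let R := h.toSP hA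
  rcases hn with rfl | rfl | rfl | rfl
  · have := reg3 (R.sh (i - 2))
    rwa [SP.sh_x, add_sub_cancel] at this
  · exact reg4 R i
  · exact R.reg6 i
  have pw : ∀ u v, E u v → ∃ k, pd E u v = p ^ k := fun u v e => by
    obtain ⟨y, ey, hy, -⟩ := P.third e e
    obtain ⟨k, hk⟩ := (U_p (G := G) (p := p) v u).card_orbit y
    refine ⟨k, hk ▸ Nat.card_congr (Equiv.subtypeEquivRight fun w => ⟨fun ⟨a, b⟩ => ?_, ?_⟩)⟩
    · obtain ⟨g, hg, k⟩ := R.Utr e ey a hy b
      exact ⟨⟨g, hg⟩, k⟩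
    · rintro ⟨g, rfl⟩
      exact ⟨P.einv' (U.r g.2) ey, fun c => hy (MulAction.injective (g : G) (c.trans (U.l g.2).symm))⟩
  have e0 : E (P.x 1) (P.x 0) := P.ex (by omega)
  have h8 := h8 rfl
  obtain rfl : p = 2 := by
    obtain ⟨a, ha⟩ := pw _ _ (P.esym e0)
    obtain ⟨b, hb⟩ := pw _ _ e0
    obtain ⟨m, hm⟩ := h8
    rw [ha, hb, mul_assoc, ← pow_add] at hm
    have h2 : 2 ∣ m := (Nat.prime_two.dvd_mul.1 ⟨_, hm.symm⟩).elim id id
    obtain ⟨m, rfl⟩ := h2
    exact ((Nat.prime_dvd_prime_iff_eq Nat.prime_two hp).1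
      (Nat.prime_two.dvd_of_dvd_pow (n := a + b) ⟨m * m, by linarith⟩)).symm
  refine R.reg8 (fun u v e a b => ?_) i
  have : pd E (P.x 0) (P.x 1) * pd E (P.x 1) (P.x 0) = 16 := by
    obtain ⟨g, j, rfl, rfl⟩ := (P.adj _ _).1 e
    rw [pd, ← card_nb P] at a b
    obtain ⟨s, hs⟩ := P.rot (-(j / 2))
    obtain ⟨t, ht⟩ := P.refl 1
    rcases Int.emod_two_eq_zero_or_one j with c | c
    · rw [card_nb P s, hs, hs, P.xe (i := j + _) (j := 0) (by omega),
        P.xe (i := j + 1 + _) (j := 1) (by omega)] at a b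
      rw [pd, pd, a, b]
    · rw [card_nb P (t * s), mul_smul, mul_smul, hs, hs, ht, ht, P.xe (i := _ - (j + _)) (j := 1) (by omega),
        P.xe (i := _ - (j + 1 + _)) (j := 0) (by omega)] at a b
      rw [pd, pd, a, b]
  rw [mul_assoc, this] at h8
  revert h8
  norm_num

end Sup

end H12.BP
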