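/- From rank two buildings with a Weyl transitive group to polygons. -/
import Cfsg.Agent.H12.BPNil
import Cfsg.Agent.H12.BNKit
import Cfsg.Agent.H12.BNRt

set_option autoImplicit false

namespace H12.BP

open H67 H12.BN
open scoped Pointwise

variable {W ι : Type} [Group W] {s : ι → W} {P : ι → Set W} {C : Type}

/-- Types along the apartment. -/
def ta (i j : ι) (l : ℤ) : ι := if l % 2 = 0 then i else j

/-- The Weyl group elements along the apartment. -/
def om (s : ι → W) (i j : ι) (l : ℤ) : W := (s i * s j) ^ (l / 2) * if l % 2 = 0 then 1 else s i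

theorem ta_eq (i j : ι) {l k : ℤ} (h : (l - k) % 2 = 0) : ta i j l = ta i j k := by
  unfold ta; split_ifs <;> first | rfl | omega

theorem ta_ne {i j : ι} (hij : i ≠ j) {l k : ℤ} (h : (l - k) % 2 = 1) : ta i j l ≠ ta i j k := by
  unfold ta; split_ifs <;> first | exact hij | exact hij.symm | omega

theorem om_succ (i j : ι) (l : ℤ) : om s i j (l + 1) = om s i j l * s (ta i j l) := by
  unfold om ta
  rcases Int.emod_two_eq_zero_or_one l with h | h
  · rw [if_neg (by omega), if_pos h, if_pos h, mul_one, (by omega : (l + 1) / 2 = l / 2)]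
  · rw [if_pos (by omega), if_neg (by omega), if_neg (by omega), mul_one,
      (by omega : (l + 1) / 2 = l / 2 + 1), zpow_add_one, mul_assoc]

theorem om_add (i j : ι) (l : ℤ) (k : ℕ) :
    om s i j (l + k) = om s i j l * vv s (ta i j l) (ta i j (l + 1)) k := by
  induction k with
  | zero => simp [vv_zero]
  | succ k ih =>
    rw [Nat.cast_succ, ← add_assoc, om_succ, ih, vv_succ, mul_assoc]
    congr 3
    unfold tt
    split_ifs <;> exact ta_eq _ _ (by omega)

theorem om_per (i j : ι) (l : ℤ) : om s i j (l + 2 * (mm s i j : ℕ)) = om s i j l := by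
  unfold om
  rw [(by omega : (l + 2 * (mm s i j : ℕ)) / 2 = l / 2 + (mm s i j : ℕ)),
    (by omega : (l + 2 * (mm s i j : ℕ)) % 2 = l % 2), zpow_add, zpow_natCast, mm, pow_orderOf_eq_one, mul_one]

theorem len_vv [Finite W] (E : Exch s P) (i j : ι) {k : ℕ} (h : k ≤ mm s i j) : len s (vv s i j k) = k := by
  induction k with
  | zero => simp [vv_zero, len_one]
  | succ k ih =>
    have h1 := len_vv_lt E (i := i) (j := j) (l := k) h
    have h2 := E.len_mul_s_ne (vv s i j k) (tt i j k)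
    rw [vv_succ] at *
    have := ih (by omega)
    omega

theorem om_refl (E : Exch s P) (i j : ι) (l k : ℤ) :
    om s i j (l - 1) * (om s i j l)⁻¹ * om s i j k = om s i j (2 * l - 1 - k) := by
  have st : ∀ k, om s i j (2 * l - 1 - k) = om s i j (2 * l - 1 - (k + 1)) * s (ta i j k) := fun k => by
    rw [ta_eq i j (k := 2 * l - 1 - (k + 1)) (by omega), ← om_succ]; congr 1; ring
  induction k using Int.inductionOn' with
  | b => exact l
  | zero => rw [inv_mul_cancel_right]; congr 1; ring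
  | succ k _ ih => rw [om_succ, ← mul_assoc, ih, st k, E.mul_s_mul_s]
  | pred k _ ih =>
    have := om_succ (s := s) i j (k - 1)
    rw [sub_add_cancel] at this
    rw [st (k - 1), sub_add_cancel, ← ih, this, ← mul_assoc, E.mul_s_mul_s]

theorem om_surj [Finite W] (E : Exch s P) {i j : ι} (h : ∀ k, k = i ∨ k = j) (w : W) :
    ∃ l, om s i j l = w := by
  have e : ∀ k : ℕ, om s i j k = vv s i j k := fun k => by
    simpa [om, ta] using om_add (s := s) i j 0 k
  obtain ⟨l, hl, rfl | rfl⟩ := exists_vv E i j (v := w) (by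
    rw [show ({i, j} : Set ι) = Set.univ from Set.eq_univ_of_forall h, E.WJ_univ]; trivial)
  · exact ⟨l, e l⟩
  · exact ⟨(2 * mm s i j - l : ℕ), by rw [e, vv_swap E i j l _ (by omega)]⟩

/-- A rank two building with a faithful Weyl transitive group. -/
structure RT (Δ : Bld s P C) (a : W → C) (i j : ι) (G : Type) [Group G] [MulAction G C] : Prop where
  apt : Δ.Apt a
  ne : i ≠ j
  all : ∀ k, k = i ∨ k = j
  three : 3 ≤ mm s i j
  inv : ∀ (g : G) x y, Δ.δ (g • x) (g • y) = Δ.δ x y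
  wt : ∀ x y x' y', Δ.δ x y = Δ.δ x' y' → ∃ g : G, g • x = x' ∧ g • y = y'
  fa : ∀ g : G, (∀ x : C, g • x = x) → g = 1

/-- A panel. -/
def pan (Δ : Bld s P C) (k : ι) (x : C) : Set C := {z | Δ.Res {k} x z}

/-- The vertices of the apartment. -/
def vx (Δ : Bld s P C) (a : W → C) (i j : ι) (l : ℤ) : Set C := pan Δ (ta i j (l - 1)) (a (om s i j l))

/-- Incidence of panels. -/
def EE (Δ : Bld s P C) (a : W → C) (i j : ι) (G : Type) [Group G] [MulAction G C] (u v : Set C) : Prop :=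
  ∃ (g : G) (l : ℤ), g • vx Δ a i j l = u ∧ g • vx Δ a i j (l + 1) = v

theorem ra {Δ : Bld s P C} {k : ι} {x y : C} (h : Δ.δ x y = s k) : Δ.Res {k} x y :=
  Δ.res_of_adj (Set.mem_singleton k) h

theorem pan_of {Δ : Bld s P C} {k : ι} {x y : C} (h : Δ.Res {k} x y) : pan Δ k x = pan Δ k y :=
  Set.ext fun _ => ⟨fun e => h.symm.trans e, fun e => h.trans e⟩

theorem pan_eq {Δ : Bld s P C} {k k' : ι} {x y : C} (h : pan Δ k x = pan Δ k' y) : k = k' ∧ Δ.Res {k} x y := by
  have hy : y ∈ pan Δ k x := by rw [h]; exact Bld.Res.refl Δ _ y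
  refine ⟨?_, hy⟩
  by_contra c
  obtain ⟨z, hz⟩ := Δ.exists_δ y (s k)
  have h1 : Δ.Res {k} y z := ra hz
  have h2 : z ∈ pan Δ k' y := by rw [← h]; exact Bld.Res.trans hy h1
  rw [← Δ.eq_of_res_res c h1 h2, Δ.δ_self] at hz
  exact Δ.E.s_ne_one k hz.symm

namespace RT

variable {Δ : Bld s P C} {a : W → C} {i j : ι} {G : Type} [Group G] [MulAction G C] (h : RT Δ a i j G)
include h

local notation "c" l => a (om s i j l)

theorem sm_pan (g : G) (k : ι) (x : C) : g • pan Δ k x = pan Δ k (g • x) := by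
  ext z
  rw [Set.mem_smul_set_iff_inv_smul_mem]
  show Δ.δ _ _ ∈ WJ s {k} ↔ Δ.δ _ _ ∈ WJ s {k}
  rw [← h.inv g, smul_inv_smul]

theorem adjc (l : ℤ) : Δ.δ (c l) (c (l + 1)) = s (ta i j l) := by rw [om_succ]; exact h.apt.adj _ _

theorem vx' (l : ℤ) : vx Δ a i j (l + 1) = pan Δ (ta i j l) (c l) := by
  rw [vx, add_sub_cancel_right]; exact (pan_of (ra (h.adjc l))).symm

theorem fix_c {g : G} {l : ℤ} : g • (c l) = (c l) ↔
    g • vx Δ a i j l = vx Δ a i j l ∧ g • vx Δ a i j (l + 1) = vx Δ a i j (l + 1) := by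
  rw [h.vx', vx, h.sm_pan, h.sm_pan]
  exact ⟨fun e => by rw [e]; exact ⟨rfl, rfl⟩, fun ⟨e1, e2⟩ =>
    Δ.eq_of_res_res (ta_ne h.ne (by omega)) (pan_eq e1).2 (pan_eq e2).2⟩

variable [Finite W]

theorem lenc {l k : ℤ} (h1 : l ≤ k) (h2 : k ≤ l + (mm s i j : ℕ)) : (len s (Δ.δ (c l) (c k)) : ℤ) = k - l := by
  obtain ⟨r, rfl⟩ := Int.le.dest h1
  rw [om_add, h.apt.mul, len_vv Δ.E]
  · ring
  · have : mm s (ta i j l) (ta i j (l + 1)) = mm s i j := by
      have := mm_tt Δ.E i j (l % 2).toNat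
      unfold tt at this
      unfold ta
      split_ifs at * <;> first | exact this | omega
    omega

omit [Finite W] in
theorem dc (l k r : ℤ) : Δ.δ (c l) (c r) = Δ.δ (c l) (c k) * Δ.δ (c k) (c r) := by
  rw [h.apt, h.apt, h.apt]; group

theorem st {b : W → C} (hb : Δ.Apt b) : ∃ g : G, ∀ v, g • a v = b v := by
  obtain ⟨w0, h0⟩ := Δ.E.exists_isLongest Set.univ
  obtain ⟨g, g1, g2⟩ := h.wt (a 1) (a (1 * w0)) (b 1) (b (1 * w0)) (by rw [h.apt.mul, hb.mul])
  exact ⟨g, congrFun (Bld.Apt.unique h0 (a := fun v => g • a v) (fun v w => by rw [h.inv, h.apt]) hb g1 g2)⟩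

theorem geo1 {g : G} {l k : ℤ} (h1 : l < k) (h2 : k < l + (mm s i j : ℕ))
    (hl : g • vx Δ a i j l = vx Δ a i j l) (hk : g • vx Δ a i j k = vx Δ a i j k) : g • (c l) = (c l) := by
  have pr : ∀ z r, l ≤ r → r ≤ k → Δ.δ (c l) z = Δ.δ (c l) (c r) →
      Δ.IsProj {ta i j (l - 1)} (c l) z (c l) := fun z r a1 a2 e => by
    refine Δ.isProj_iff.2 ⟨Bld.Res.refl _ _ _, ?_⟩
    rintro _ rfl
    have e1 := h.adjc (l - 1)
    rw [sub_add_cancel] at e1
    have e2 := h.lenc a1 (by omega)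
    have e3 := h.lenc (l := l - 1) (k := r) (by omega) (by omega)
    rw [h.dc _ l, e1] at e3
    rw [Δ.δ_symm, e, Δ.E.len_mul_s, inv_inv, Δ.E.len_inv]
    omega
  have e := h.adjc (k - 1)
  have hk' := h.vx' (k - 1)
  rw [sub_add_cancel] at e hk'
  rw [hk', h.sm_pan] at hk
  rw [vx, h.sm_pan] at hl
  have p1 : Δ.IsProj {ta i j (l - 1)} (c l) (g • (c (k - 1))) (c l) := by
    rcases Δ.res_single.1 (pan_eq hk).2.symm with d | d
    · exact pr _ (k - 1) (by omega) (by omega) (by rw [d])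
    · refine pr _ k (by omega) le_rfl ?_
      have e2 := h.lenc (l := l) (k := k - 1) (by omega) (by omega)
      have e3 := h.lenc (l := l) (k := k) (by omega) (by omega)
      rw [h.dc l (k - 1) k, e] at e3 ⊢
      exact Δ.step_lt_right d (by omega)
  have p2 := Δ.isProj_iff.1 (pr _ (k - 1) (by omega) (by omega) rfl)
  exact Bld.IsProj.unique (Δ.isProj_iff.2 ⟨(pan_eq hl).2.symm, by rw [h.inv]; exact p2.2⟩) p1

omit [Finite W] in
theorem nbv {l : ℤ} {z : C} (hz : Δ.Res {ta i j (l - 1)} (c l) z) :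
    ∃ g : G, g • vx Δ a i j l = vx Δ a i j l ∧ g • vx Δ a i j (l + 1) = pan Δ (ta i j l) z := by
  obtain ⟨g, g1, -⟩ := h.wt (c l) (c l) z z (by rw [Δ.δ_self, Δ.δ_self])
  exact ⟨g, by rw [vx, h.sm_pan, g1, pan_of hz], by rw [h.vx', h.sm_pan, g1]⟩

omit [Finite W] in
theorem star {g : G} {l : ℤ} (h1 : g • vx Δ a i j l = vx Δ a i j l)
    (h2 : ∀ w, EE Δ a i j G (vx Δ a i j l) w → g • w = w) {z : C} (hz : Δ.Res {ta i j (l - 1)} (c l) z) :
    g • z = z := by
  obtain ⟨t, t1, t2⟩ := h.nbv hz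
  have := h2 _ ⟨t, l, t1, t2⟩
  rw [vx, pan_of hz, h.sm_pan] at h1
  rw [h.sm_pan] at this
  exact Δ.eq_of_res_res (ta_ne h.ne (by omega)) (pan_eq h1).2 (pan_eq this).2

/-- The polygon. -/
def pol : Pol (mm s i j) G (EE Δ a i j G) where
  x := vx Δ a i j
  three := h.three
  adj _ _ := Iff.rfl
  per l := by rw [vx, vx, om_per, ta_eq i j (k := l - 1) (by omega)]
  refl l := by
    obtain ⟨g, hg⟩ := h.st (h.apt.shift (om s i j (l - 1) * (om s i j l)⁻¹))
    refine ⟨g, fun k => ?_⟩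
    rw [vx, h.sm_pan, hg, om_refl Δ.E, (by ring : 2 * l - k = 2 * l - 1 - k + 1), h.vx',
      ta_eq i j (k := 2 * l - 1 - k) (by omega)]
  typ g l k e := by
    rw [vx, vx, h.sm_pan] at e
    by_contra d
    exact ta_ne h.ne (by rw [Int.not_even_iff] at d; omega) (pan_eq e).1
  ne l e := by
    have h3 := h.three
    rw [h.vx', vx] at e
    have e1 := h.adjc (l - 1)
    rw [sub_add_cancel] at e1
    have := Δ.eq_of_res_res (ta_ne h.ne (by omega)) (pan_eq e).2 (ra e1)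
    rw [this, Δ.δ_self] at e1
    exact Δ.E.s_ne_one _ e1.symm
  geo g l k r h1 h2 h3 hl hk := by
    induction r, h1 using Int.leInduction with
    | base => exact hl
    | succ r h1 ih => exact (h.fix_c.1 (h.geo1 (by omega) (by omega) (ih (by omega)) hk)).2
  tr g l hl hn := by
    have h3 := h.three
    have e1 := h.adjc (l - 1)
    have hv := h.vx' (l - 1)
    rw [sub_add_cancel] at e1 hv
    have z1 : Δ.δ (c l) (g • (c (l - 1))) = s (ta i j (l - 1)) := by
      rw [hv, h.sm_pan] at hl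
      refine (Δ.res_single.1 (Bld.Res.trans (ra (Δ.δ_symm_s e1)) (pan_eq hl).2.symm)).resolve_left
        fun d => hn ?_
      rw [vx, h.sm_pan, d, h.vx', ta_eq i j (k := l) (by omega)]
    have l1 := h.lenc (l := l) (k := l + (mm s i j : ℕ) - 1) (by omega) (by omega)
    have l2 := h.lenc (l := l - 1) (k := l + (mm s i j : ℕ) - 1) (by omega) (by omega)
    rw [h.dc _ l, e1] at l2
    have z2 := Δ.step_lt (z := c (l + (mm s i j : ℕ) - 1)) (Δ.δ_symm_s z1) (by omega)
    obtain ⟨t, t1, t2⟩ := h.wt (c (l - 1)) (c (l + (mm s i j : ℕ) - 1)) _ _ (by rw [z2, h.dc _ l, e1])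
    have t3 : t • (c l) = (c l) := Δ.mid_unique (v := s (ta i j (l - 1)))
      (z := c (l + (mm s i j : ℕ) - 1)) (w := Δ.δ (c l) (c (l + (mm s i j : ℕ) - 1))) (by rw [Δ.E.len_s]; omega)
      (by rw [← t1, h.inv, e1]) (by rw [← t2, h.inv, t2]) (Δ.δ_symm_s z1) rfl
    have t4 : ∀ k, l ≤ k → k ≤ l + (mm s i j : ℕ) - 1 → t • (c k) = (c k) := fun k a1 a2 =>
      Δ.mid_unique (x := c l) (z := c (l + (mm s i j : ℕ) - 1)) (by
        have := h.lenc a1 (by omega)
        have := h.lenc a2 (by omega)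
        rw [← h.dc]; omega) (by rw [← t3, h.inv, t3]) (by rw [← t2, h.inv, t2]) rfl rfl
    refine ⟨t, fun k a1 a2 => ?_, by rw [vx, h.sm_pan, h.sm_pan, t1]⟩
    by_cases d : k = l
    · exact d ▸ (h.fix_c.1 t3).1
    · simpa using (h.fix_c.1 (t4 (k - 1) (by omega) (by omega))).2
  thick l := by
    have e1 := h.adjc (l - 1)
    have hv := h.vx' (l - 1)
    rw [sub_add_cancel] at e1 hv
    obtain ⟨z, z1, z2⟩ := Δ.exists_third e1
    obtain ⟨g, g1, -⟩ := h.wt (c (l - 1)) (c (l - 1)) z z (by rw [Δ.δ_self, Δ.δ_self])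
    refine ⟨g, by rw [hv, h.sm_pan, g1, pan_of (ra z1)], fun e => ?_, fun e => ?_⟩
    · rw [vx, h.sm_pan, g1] at e
      rw [Δ.eq_of_res_res (ta_ne h.ne (by omega)) (pan_eq e).2.symm (ra z1), Δ.δ_self] at z1
      exact Δ.E.s_ne_one _ z1.symm
    · rw [vx, h.sm_pan, g1, h.vx'] at e
      rw [Δ.eq_of_res_res (ta_ne h.ne (by omega)) (pan_eq e).2.symm (ra z2), Δ.δ_self] at z2
      exact Δ.E.s_ne_one _ z2.symm
  rig g l h0 h1 h2 := by
    have := h.apt.eq_one (φ := MulAction.toPerm g) ⟨h.inv g, fun w => by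
      obtain ⟨k, rfl⟩ := om_surj Δ.E h.all w
      exact h.fix_c.2 ⟨h0 _, h0 _⟩⟩ (om s i j l) fun k x hx => by
        by_cases d : k = ta i j (l - 1)
        · exact h.star (h0 _) h1 (ra (d ▸ hx))
        · have : k = ta i j l := by
            have := ta_ne h.ne (l := l) (k := l - 1) (by omega)
            rcases h.all k with e | e <;> rcases h.all (ta i j l) with e1 | e1 <;>
              rcases h.all (ta i j (l - 1)) with e2 | e2 <;> simp_all
          refine h.star (h0 _) h2 ?_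
          rw [add_sub_cancel_right]
          exact Bld.Res.trans (ra (Δ.δ_symm_s (h.adjc l))) (ra (this ▸ hx))
    exact h.fa g fun x => congrFun (congrArg (⇑) this) x

theorem pol_x (l : ℤ) : h.pol.x l = vx Δ a i j l := rfl

theorem pd_eq (l : ℤ) : pd (EE Δ a i j G) (vx Δ a i j l) (vx Δ a i j (l + 1)) = Δ.q (ta i j (l - 1)) := by
  rw [← Δ.card_adj _ (c l)]
  have k : ∀ z, Δ.δ (c l) z = s (ta i j (l - 1)) → EE Δ a i j G (vx Δ a i j l) (pan Δ (ta i j l) z) ∧
      pan Δ (ta i j l) z ≠ vx Δ a i j (l + 1) := fun z hz => by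
    obtain ⟨g, g1, g2⟩ := h.nbv (ra hz)
    refine ⟨⟨g, l, g1, g2⟩, fun e => ?_⟩
    rw [h.vx'] at e
    rw [← Δ.eq_of_res_res (ta_ne h.ne (by omega)) (pan_eq e).2.symm (ra hz), Δ.δ_self] at hz
    exact Δ.E.s_ne_one _ hz.symm
  refine (Nat.card_eq_of_bijective (fun z : {z // Δ.δ (c l) z = s (ta i j (l - 1))} =>
    (⟨_, k z z.2⟩ : {w // _ ∧ w ≠ _})) ⟨fun z z' e => ?_, ?_⟩).symm
  · exact Subtype.ext (Δ.eq_of_res_res (ta_ne h.ne (by omega)) (pan_eq (congrArg Subtype.val e)).2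
      (Bld.Res.trans (ra z.2).symm (ra z'.2)))
  · rintro ⟨w, e, hw⟩
    obtain ⟨g, g1, rfl⟩ := h.pol.nb e
    have e1 := h.adjc (l - 1)
    have hv := h.vx' (l - 1)
    rw [sub_add_cancel] at e1 hv
    have k : g • h.pol.x (l - 1) = pan Δ (ta i j l) (g • (c (l - 1))) := by
      rw [pol_x, vx, h.sm_pan, ta_eq i j (k := l) (by omega)]
    rw [pol_x, hv, h.sm_pan] at g1
    refine ⟨⟨g • (c (l - 1)), (Δ.res_single.1 (Bld.Res.trans (ra (Δ.δ_symm_s e1))
      (pan_eq g1).2.symm)).resolve_left fun d => hw ?_⟩, Subtype.ext k.symm⟩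
    rw [k, d, h.vx']

end RT

end H12.BP
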