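/- Octagons: `2 s t` is a square (the last step of the Feit–Higman argument). -/
import Cfsg.Agent.H67.FH

set_option autoImplicit false

namespace H12.BP

open Cfsg Polynomial H67

theorem fh8_num {α β : ℝ} {d : ℕ} (hd : d = 4) (hA : ∃ A : ℚ, α ^ 2 + β ^ 2 = A)
    (hα : α ≠ 0) (hβ : β ≠ 0)
    (h : ∀ θ : ℝ, Real.sin θ ≠ 0 → Real.sin (d * θ) = 0 →
      ∃ ρ : ℚ, α ^ 2 + β ^ 2 + α * β * (2 * Real.cos θ) = ρ * (4 - (2 * Real.cos θ) ^ 2)) :
    ∃ r : ℚ, α * β * (√2 / 2) = r := by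
  obtain ⟨A, hA⟩ := hA
  have hpos : 0 < α ^ 2 + β ^ 2 := by positivity
  have key : ∀ θ : ℝ, Real.sin θ ≠ 0 → Real.sin (d * θ) = 0 →
      (∃ q : ℚ, Real.cos (2 * θ) = q) ∧ ∃ q : ℚ, α * β * Real.cos θ = q := by
    intro θ h1 h2
    obtain ⟨ρ, hρ⟩ := h θ h1 h2
    obtain ⟨ρ', hρ'⟩ := h (Real.pi - θ) (by rwa [Real.sin_pi_sub]) (by
      rw [mul_sub, Real.sin_sub, h2, Real.sin_nat_mul_pi]; simp)
    rw [Real.cos_pi_sub] at hρ'
    have hs : (2 : ℝ) * A = (ρ + ρ') * (4 - (2 * Real.cos θ) ^ 2) := by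
      rw [← hA]; linear_combination hρ + hρ'
    have hρ0 : (ρ : ℝ) + ρ' ≠ 0 := by
      intro h0
      rw [h0, zero_mul, ← hA] at hs
      linarith
    have hx : 4 - (2 * Real.cos θ) ^ 2 = 2 * A / (ρ + ρ') := by
      rw [hs]; field_simp
    refine ⟨⟨1 - A / (ρ + ρ'), ?_⟩, ⟨(ρ - ρ') * (2 * A / (ρ + ρ')) / 4, ?_⟩⟩
    · rw [Real.cos_two_mul]
      push_cast
      have : (A : ℝ) / (ρ + ρ') = 2 * A / (ρ + ρ') / 2 := by field_simp
      rw [this, ← hx]
      ring
    · push_cast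
      rw [← hx]
      linear_combination (hρ - hρ') / 4
  rw [← Real.cos_pi_div_four]
  refine (key _ (by rw [Real.sin_pi_div_four]; positivity) ?_).2
  rw [hd, show ((4 : ℕ) : ℝ) * (Real.pi / 4) = Real.pi by push_cast; ring, Real.sin_pi]

variable {G : Type*} [Group G] {P : BNPair G}

theorem fh8 [Finite G] (s t : P.S) (h8 : orderOf (sim P s * sim P t) = 8) :
    IsSquare (2 * qw P (sim P s) * qw P (sim P t)) := by
  classical
  have := Fintype.ofFinite (G ⧸ P.B)
  set m := orderOf (sim P s * sim P t) with hm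
  have hinv : sim P t * sim P s = (sim P s * sim P t)⁻¹ := by rw [mul_inv_rev, sim_inv, sim_inv]
  have hm' : orderOf (sim P t * sim P s) = m := by rw [hinv, orderOf_inv]
  have hm0 : 0 < m := orderOf_pos _
  have hm3 : 3 ≤ m := by omega
  have hne : ∀ k, 0 < k → k < m → (sim P s * sim P t) ^ k ≠ 1 := fun k hk hkm =>
    pow_ne_one_of_lt_orderOf hk.ne' hkm
  have hne' : ∀ k, 0 < k → k < m → (sim P t * sim P s) ^ k ≠ 1 := fun k hk hkm =>
    pow_ne_one_of_lt_orderOf hk.ne' (hm' ▸ hkm)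
  set S := hT P ℝ (sim P s) with hS
  set T := hT P ℝ (sim P t) with hT'
  have hpow : ∀ k, 2 * k ≤ m → (S * T) ^ k = hT P ℝ ((sim P s * sim P t) ^ k) := by
    intro k hk
    rw [hS, hT', ← prod_alt_even (fun i => hT P ℝ (sim P i)),
      ← hT_alt _ _ _ fun j hj hjk => hne j hj (by omega), wp, prod_alt_even]
  have hpow' : ∀ k, 2 * k ≤ m → (T * S) ^ k = hT P ℝ ((sim P t * sim P s) ^ k) := by
    intro k hk
    rw [hS, hT', ← prod_alt_even (fun i => hT P ℝ (sim P i)),
      ← hT_alt _ _ _ fun j hj hjk => hne' j hj (by omega), wp, prod_alt_even]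
  have hbraid : ((alt s t m).map fun i => hT P ℝ (sim P i)).prod =
      ((alt t s m).map fun i => hT P ℝ (sim P i)).prod := by
    rw [← hT_alt _ _ _ hne, ← hT_alt _ _ _ hne', wp_alt_swap _ (sim_sq P), pow_orderOf_eq_one,
      one_mul]
  set p := qw P (sim P s) with hp
  set q := qw P (sim P t) with hq
  have hp2 : (2 : ℝ) ≤ p := by exact_mod_cast two_le_qw_sim s
  have hq2 : (2 : ℝ) ≤ q := by exact_mod_cast two_le_qw_sim t
  have quad : ∀ (U : Matrix (G ⧸ P.B) (G ⧸ P.B) ℝ) (r : ℝ), 2 ≤ r → U * U = r • 1 + (r - 1) • U →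
      ((√r)⁻¹ • U) * ((√r)⁻¹ • U) = 1 + ((r - 1) / √r) • ((√r)⁻¹ • U) := by
    intro U r hr hU
    have h0 : √r ≠ 0 := by positivity
    have h1 : √r * √r = r := Real.mul_self_sqrt (by linarith)
    rw [smul_mul_smul_comm, hU, smul_add, smul_smul, smul_smul, smul_smul]
    congr 1
    · rw [← mul_inv, h1, inv_mul_cancel₀ (by linarith), one_smul]
    · congr 1
      field_simp
  set a := (√(p : ℝ))⁻¹ • S with ha'
  set b := (√(q : ℝ))⁻¹ • T with hb'
  set α := ((p : ℝ) - 1) / √(p : ℝ) with hα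
  set β := ((q : ℝ) - 1) / √(q : ℝ) with hβ
  have ha : a * a = 1 + α • a := quad S p hp2 (hT_sim_sq s)
  have hb : b * b = 1 + β • b := quad T q hq2 (hT_sim_sq t)
  have hsp : √(p : ℝ) ≠ 0 := by positivity
  have hsq : √(q : ℝ) ≠ 0 := by positivity
  have hα0 : α ≠ 0 := div_ne_zero (by linarith) hsp
  have hβ0 : β ≠ 0 := div_ne_zero (by linarith) hsq
  have hα2 : α ^ 2 = (((p - 1) ^ 2 / p : ℚ) : ℝ) := by
    rw [hα, div_pow, Real.sq_sqrt (by linarith)]; push_cast; ring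
  have hβ2 : β ^ 2 = (((q - 1) ^ 2 / q : ℚ) : ℝ) := by
    rw [hβ, div_pow, Real.sq_sqrt (by linarith)]; push_cast; ring
  set c := (√(p : ℝ))⁻¹ * (√(q : ℝ))⁻¹ with hc
  have hab : a * b = c • (S * T) := smul_mul_smul_comm _ _ _ _
  have hba : b * a = c • (T * S) := by rw [hc, mul_comm]; exact smul_mul_smul_comm _ _ _ _
  have hST : S * T = hT P ℝ (sim P s * sim P t) := by simpa using hpow 1 (by omega)
  have hTS : T * S = hT P ℝ (sim P t * sim P s) := by simpa using hpow' 1 (by omega)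
  have hqst : qw P (sim P s * sim P t) = p * q := by
    apply qw_mul_of_len_add
    have h1 : sim P t ∈ asc P s := by
      simpa [alt_succ] using (bn_exch P).wp_alt_mem s t 1 fun k hk hk1 => hne k hk (by omega)
    rw [(bn_exch P).len_of_mem h1, (bn_exch P).len_s, (bn_exch P).len_s]
  have hqts : qw P (sim P t * sim P s) = q * p := by
    apply qw_mul_of_len_add
    have h1 : sim P s ∈ asc P t := by
      simpa [alt_succ] using (bn_exch P).wp_alt_mem t s 1 fun k hk hk1 => hne' k hk (by omega)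
    rw [(bn_exch P).len_of_mem h1, (bn_exch P).len_s, (bn_exch P).len_s]
  have hcc : c * c * (p * q) = 1 := by
    have h1 : √(p : ℝ) * √(p : ℝ) = p := Real.mul_self_sqrt (by linarith)
    have h2 : √(q : ℝ) * √(q : ℝ) = q := Real.mul_self_sqrt (by linarith)
    rw [hc]
    field_simp
    rw [sq, sq, h1, h2]
  have htr1 : ((a * b - b * a) * (a * b - b * a)).trace =
      -((2 * Fintype.card (G ⧸ P.B) : ℕ) : ℝ) := by
    have e1 := trace_hT_mul_inv (P := P) (R := ℝ) (sim P s * sim P t)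
    have e2 := trace_hT_mul_inv (P := P) (R := ℝ) (sim P t * sim P s)
    rw [← hinv, hqst] at e1
    rw [hinv, inv_inv, ← hinv, hqts] at e2
    rw [hab, hba, ← smul_sub, smul_mul_smul_comm, Matrix.trace_smul, hST, hTS, sub_mul, mul_sub,
      mul_sub, Matrix.trace_sub, Matrix.trace_sub, Matrix.trace_sub, e1, e2,
      trace_hT_mul_of_ne (by simpa [sq] using hne 2 two_pos (by omega)),
      trace_hT_mul_of_ne (by simpa [sq] using hne' 2 two_pos (by omega))]
    push_cast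
    rw [smul_eq_mul]
    linear_combination (-2 * (Fintype.card (G ⧸ P.B) : ℝ)) * hcc
  have htrk : ∀ k, 2 ≤ k → 2 * k ≤ m →
      ((a * b - b * a) * ((a * b) ^ k - (b * a) ^ k)).trace = 0 := by
    intro k hk hkm
    obtain ⟨j, rfl⟩ : ∃ j, k = j + 1 := ⟨k - 1, by omega⟩
    rw [hab, hba, _root_.smul_pow, _root_.smul_pow, ← smul_sub, ← smul_sub, smul_mul_smul_comm,
      Matrix.trace_smul, hpow _ hkm, hpow' _ hkm, hST, hTS, sub_mul, mul_sub,
      mul_sub, Matrix.trace_sub, Matrix.trace_sub, Matrix.trace_sub,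
      trace_hT_mul_of_ne (by rw [← pow_succ']; exact hne _ (by omega) (by omega)),
      trace_hT_mul_of_ne (by
        rw [pow_succ', ← mul_assoc, hinv, mul_inv_cancel, one_mul, ← hinv]
        exact hne' _ (by omega) (by omega)),
      trace_hT_mul_of_ne (by
        rw [pow_succ', ← mul_assoc, hinv, inv_mul_cancel, one_mul]
        exact hne _ (by omega) (by omega)),
      trace_hT_mul_of_ne (by rw [← pow_succ']; exact hne' _ (by omega) (by omega))]
    simp
  have hN : 2 * Fintype.card (G ⧸ P.B) ≠ 0 := by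
    have := Fintype.card_pos (α := G ⧸ P.B)
    omega
  obtain ⟨n, hn⟩ : ∃ n, n = 2 := ⟨2, rfl⟩
  have hd : m = 2 * (n + 2) := by omega
  have hbr : (a * b) ^ (n + 2) - (b * a) ^ (n + 2) = 0 := by
    rw [hd, prod_alt_even, prod_alt_even] at hbraid
    rw [hab, hba, _root_.smul_pow, _root_.smul_pow, hS, hT', hbraid, sub_self]
  have := fh8_num (α := α) (β := β) (d := n + 2) (by omega)
    ⟨_, by rw [hα2, hβ2, ← Rat.cast_add]⟩ hα0 hβ0 (by
      intro θ h1 h2
      have hu : (chP (n + 2)).eval (2 * Real.cos θ) = 0 := by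
        have := chP_eval_cos θ (n + 2)
        rw [h2] at this
        exact (mul_eq_zero.1 this).resolve_right h1
      obtain ⟨r, hr⟩ := fh_integrality ha hb n (2 * Real.cos θ) _ (by exact_mod_cast hN) (by
        rw [hu, map_zero, zero_mul, sub_zero, map_mul, mul_assoc, ← fh_pow_sub ha hb, hbr,
          mul_zero]) htr1 fun k hk hkn => htrk k hk (by omega)
      refine fh_rat (m := m) hN hr ?_ hm0.ne'
      have h3 := chP_cassini (2 * Real.cos θ) n
      rw [cdK_eval, hu, hd]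
      rw [hu] at h3
      push_cast
      linear_combination h3)
  obtain ⟨r, hr⟩ := this
  have h1 : √(p : ℝ) * √(p : ℝ) = p := Real.mul_self_sqrt (by linarith)
  have h2 : √(q : ℝ) * √(q : ℝ) = q := Real.mul_self_sqrt (by linarith)
  have h3 : √(2 : ℝ) * √(2 : ℝ) = 2 := Real.mul_self_sqrt (by norm_num)
  have r0 : (r : ℝ) ≠ 0 := by rw [← hr]; positivity
  rw [← Rat.isSquare_natCast_iff]
  refine ⟨(p - 1) * (q - 1) / r, ?_⟩
  apply Rat.cast_injective (α := ℝ)
  push_cast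
  have e : ((p : ℝ) - 1) * (q - 1) / r = √2 * √(p : ℝ) * √(q : ℝ) := by
    rw [div_eq_iff r0, ← hr, hα, hβ]
    field_simp
    rw [sq, h3]
  rw [e]
  linear_combination (-(p * q) : ℝ) * h3 - (√2 * √2 * q) * h1 - (√2 * √2 * √(p : ℝ) * √(p : ℝ)) * h2

end H12.BP
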