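/- Split (B,N)-pairs: the panel actions of a nilpotent normal supplement are regular. -/
import Cfsg.Agent.H12.BPBr
import Cfsg.Agent.H12.BPFH
import Cfsg.Agent.H12.BNTits
import Cfsg.Agent.H46.Nil

set_option autoImplicit false

namespace H12.BP

open H67 H12.BN Cfsg Subgroup
open scoped Pointwise

/-- `U` splits the (B,N)-pair. -/
structure Spl {G : Type*} [Group G] (P : BNPair G) (U : Subgroup G) : Prop where
  le : U ≤ P.B
  nor : ∀ b ∈ P.B, ∀ u ∈ U, b * u * b⁻¹ ∈ U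
  nil : Group.IsNilpotent U
  sup : ∀ b ∈ P.B, ∃ u ∈ U, u⁻¹ * b ∈ P.N

theorem Spl.of {G : Type*} [Group G] {P : BNPair G} {U : Subgroup G} (h1 : U ≤ P.B)
    (h2 : ∀ b ∈ P.B, ∀ u ∈ U, b * u * b⁻¹ ∈ U) (h3 : Group.IsNilpotent U) (h4 : U ⊔ (P.B ⊓ P.N) = P.B) :
    Spl P U := ⟨h1, h2, h3, fun b hb => by
  have : b ∈ ((U ⊔ (P.B ⊓ P.N) : Subgroup G) : Set G) := by rwa [h4]
  rw [coe_mul_of_right_le_normalizer_left _ _ (le_nor fun g hg => h2 g (mem_inf.1 hg).1)] at this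
  obtain ⟨u, hu, t, ht, rfl⟩ := this
  exact ⟨u, hu, by simpa using ht.2⟩⟩

theorem Spl.map {G G' : Type*} [Group G] [Group G'] {P : BNPair G} {U : Subgroup G} (h : Spl P U)
    (φ : G →* G') (hs : Function.Surjective φ) (hk : φ.ker ≤ P.B) : Spl (bnMap P φ hs hk) (U.map φ) := by
  have := h.nil
  refine ⟨map_mono h.le, ?_, Group.nilpotent_of_surjective _ (φ.subgroupMap_surjective U), ?_⟩
  · rintro _ ⟨b, hb, rfl⟩ _ ⟨u, hu, rfl⟩
    exact ⟨_, h.nor b hb u hu, by simp⟩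
  · rintro _ ⟨b, hb, rfl⟩
    obtain ⟨u, hu, k⟩ := h.sup b hb
    exact ⟨_, ⟨u, hu, rfl⟩, _, k, by simp⟩

/-- Regularity on the panel of type `k`. -/
def RegS {G : Type*} [Group G] (P : BNPair G) (U : Subgroup G) (k : G) : Prop :=
  ∀ u ∈ U, k⁻¹ * u * k ∈ P.B → ∀ b ∈ P.B, (b * k)⁻¹ * u * (b * k) ∈ P.B

variable {G : Type} [Group G] [Finite G] {P : BNPair G}

omit [Finite G] in
theorem fix_mk {g x : G} : g • (x : G ⧸ P.B) = x ↔ x⁻¹ * g * x ∈ P.B := by
  rw [MulAction.Quotient.smul_mk, smul_eq_mul, eq_comm, QuotientGroup.eq, mul_assoc]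

omit [Finite G] in
theorem core_of (hc : P.B.normalCore = ⊥) {g : G} (h : ∀ x : G ⧸ P.B, g • x = x) : g = 1 := by
  have : g ∈ P.B.normalCore := fun b => by simpa using fix_mk.1 (h (b⁻¹ : G))
  rwa [hc] at this

section Two
variable {Δ : Bld (sim P) (asc P) (G ⧸ P.B)} {a : Weyl P → G ⧸ P.B} (hδ : Δ.δ = wdist P) (ha : Δ.Apt a)
  (hn : ∀ n ∈ P.N, a (wOf P n) = (n : G ⧸ P.B))

include hδ ha in
theorem rt_of (hc : P.B.normalCore = ⊥) {i j : P.S} (h : ∀ k, k = i ∨ k = j)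
    (hij : sim P j * sim P i ≠ sim P i * sim P j) : RT Δ a i j G := by
  refine ⟨ha, by rintro rfl; exact hij rfl, h, ?_, fun g x y => by rw [hδ, wdist_smul],
    fun x y x' y' e => exists_smul_eq_of_wdist_eq (hδ ▸ e), fun g => core_of hc⟩
  have h2 : mm (sim P) i j ≠ 2 := fun e => hij (by
    have := pow_orderOf_eq_one (sim P i * sim P j)
    rw [show orderOf (sim P i * sim P j) = 2 from e, sq] at this
    rw [eq_inv_of_mul_eq_one_left this, mul_inv_rev, sim_inv, sim_inv])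
  have := feit_higman i j (by rintro rfl; exact hij rfl)
  simp only [Set.mem_insert_iff, Set.mem_singleton_iff] at this
  unfold mm at *
  omega

include hn in
theorem N_fix {t : G} (h1 : t ∈ P.B) (h2 : t ∈ P.N) (w : Weyl P) : t • a w = a w := by
  obtain ⟨n, n1, rfl⟩ := H38.BNF.exists_N P w
  rw [hn n n1, fix_mk]
  simpa using P.conj_mem _ (inv_mem n1) t ⟨h1, h2⟩

include hn in
theorem sup_of {i j : P.S} (h : RT Δ a i j G) {U : Subgroup G} (hU : Spl P U) : Sup h.pol U := by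
  have k : ∀ g : G, g ∈ P.B ↔ g • h.pol.x 0 = h.pol.x 0 ∧ g • h.pol.x 1 = h.pol.x 1 := fun g => by
    refine Iff.trans ?_ (h.fix_c (l := 0))
    rw [show om (sim P) i j 0 = 1 by simp [om], H38.BNF.a_one hn, fix_mk]; simp
  refine ⟨fun u hu => ((k u).1 (hU.le hu)).1, fun u hu => ((k u).1 (hU.le hu)).2,
    fun b b0 b1 => hU.nor b ((k b).2 ⟨b0, b1⟩), fun b b0 b1 => ?_⟩
  obtain ⟨u, hu, e⟩ := hU.sup b ((k b).2 ⟨b0, b1⟩)
  refine ⟨u, hu, fun l => ?_⟩
  rw [← inv_smul_eq_iff, ← mul_smul]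
  exact (h.fix_c.1 (N_fix hn (mul_mem (inv_mem (hU.le hu)) ((k b).2 ⟨b0, b1⟩)) e _)).1

include hδ hn in
theorem reg_two {i j : P.S} (h : RT Δ a i j G) {U : Subgroup G} (hU : Spl P U) :
    ∃ p : ℕ, p.Prime ∧ IsPGroup p U ∧ ∀ l, Reg G (EE Δ a i j G) p (h.pol.x l) := by
  have h3 := h.three
  refine (sup_of hn h hU).reg hU.nil ?_ fun h8 => ?_
  · have := feit_higman i j h.ne
    simp only [Set.mem_insert_iff, Set.mem_singleton_iff] at this
    unfold mm at *
    omega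
  · have hq : ∀ k, Δ.q k = qw P (sim P k) := fun k => by rw [← Δ.card_adj k (a 1), hδ, card_wdist_eq]
    obtain ⟨g, hg⟩ := h.pol.refl 1
    have e1 := h.pd_eq 0
    have e2 := h.pd_eq 1
    have e3 := card_nb h.pol g (h.pol.x 1) (h.pol.x 0)
    rw [hg, hg] at e3
    rw [show pd _ (h.pol.x 0) (h.pol.x 1) = _ from e1, show pd _ (h.pol.x 1) (h.pol.x 0) = _ from e3.trans e2,
      hq, hq, mul_right_comm]
    exact fh8 i j h8

end Two

theorem regS_two (hc : P.B.normalCore = ⊥) {i j : P.S} (h : ∀ k, k = i ∨ k = j)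
    (hij : sim P j * sim P i ≠ sim P i * sim P j) {U : Subgroup G} (hU : Spl P U) : RegS P U i := by
  obtain ⟨Δ, a, hδ, ha, hn⟩ := jobBld G P
  have R := rt_of hδ ha hc h hij
  obtain ⟨p, -, hp, hr⟩ := reg_two hδ hn R hU
  have S := sup_of hn R hU
  intro u hu k b hb
  have e : a (om (sim P) i j 1) = ((i : G) : G ⧸ P.B) := by
    rw [← hn _ (P.subset i.2), wOf_S]; simp [om]
  have h3 := R.three
  have f1 : u • a (om (sim P) i j 1) = a (om (sim P) i j 1) := by rw [e]; exact fix_mk.2 k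
  have f2 : u • R.pol.x 2 = R.pol.x 2 := (R.fix_c.1 f1).2
  have f3 : u ∈ BP.U G p (R.pol.x 0) (R.pol.x 1) :=
    le_U hp (fun a ha => ⟨S.f0 a ha, S.f1 a ha⟩) S.nor hu
  have := mem_Bl1.1 (hr 1 (R.pol.x 0) (R.pol.x 2) (R.pol.ex (by omega)) (R.pol.ex (by omega))
    (R.pol.nx (by omega)) u f3 f2)
  have e1 : Δ.δ ((1 : G) : G ⧸ P.B) ((i : G) : G ⧸ P.B) = sim P i := by
    rw [hδ, wdist_mk, inv_one, one_mul, wOf_S]
  have e2 : Δ.δ ((1 : G) : G ⧸ P.B) ((b * i : G) : G ⧸ P.B) = sim P i := by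
    rw [hδ, wdist_mk, inv_one, one_mul, wOf_mul_left hb, wOf_S]
  have e3 : Δ.Res {ta i j (1 - 1)} (a (om (sim P) i j 1)) ((b * i : G) : G ⧸ P.B) := by
    rw [e, show ta i j (1 - 1) = i by simp [ta]]
    exact Bld.Res.trans (ra e1).symm (ra e2)
  exact (fix_mk (g := u) (x := b * i)).1 (R.star (g := u) (l := 1) this.1 this.2 e3)

/-- The (B,N)-pair of a parabolic subgroup. -/
def bnPar (P : BNPair G) (J : Set G) (hJ : J ⊆ P.S) : BNPair (P.parabolic J) where
  B := P.B.subgroupOf _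
  N := (closure J ⊔ (P.B ⊓ P.N)).subgroupOf _
  S := Subtype.val ⁻¹' J
  sup_eq_top := by
    rw [← subgroupOf_sup (B_le_parabolic J) (sup_le le_sup_right (inf_le_left.trans le_sup_left)),
      subgroupOf_eq_top]
    exact sup_le_sup_left le_sup_left _
  conj_mem n hn t ht := by
    have k : closure J ⊔ (P.B ⊓ P.N) ≤ P.N := sup_le ((closure_le _).2 (hJ.trans P.subset)) inf_le_right
    exact P.conj_mem _ (k hn) _ ⟨ht.1, k ht.2⟩
  subset s hs := mem_sup_left (subset_closure hs)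
  sq_mem s hs := P.sq_mem _ (hJ hs)
  inj s hs t ht h := Subtype.ext (P.inj _ (hJ hs) _ (hJ ht) h)
  closure_sup := by
    have k : closure J ⊔ (P.B ⊓ P.N) ≤ P.N := sup_le ((closure_le _).2 (hJ.trans P.subset)) inf_le_right
    apply map_injective (subtype_injective _)
    rw [Subgroup.map_sup, MonoidHom.map_closure, coe_subtype, Set.image_preimage_eq_of_subset
      (fun s hs => ⟨⟨s, mem_parabolic_of_mem hs⟩, rfl⟩), subgroupOf, subgroupOf, ← comap_inf, ← subgroupOf, ← subgroupOf, map_subgroupOf_eq_of_le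
      (inf_le_left.trans (B_le_parabolic J)), map_subgroupOf_eq_of_le (K := P.parabolic J)
      (sup_le le_sup_right (inf_le_left.trans le_sup_left))]
    exact le_antisymm (sup_le le_sup_left inf_le_right) (sup_le le_sup_left
      (le_sup_of_le_right (le_inf inf_le_left le_sup_right)))
  mul_mem_union s hs n hn b hb := by
    have k : closure J ⊔ (P.B ⊓ P.N) ≤ P.N := sup_le ((closure_le _).2 (hJ.trans P.subset)) inf_le_right
    rcases P.mul_mem_union _ (hJ hs) _ (k hn) _ hb with h | h <;>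
      obtain ⟨x, hx, y, hy, h⟩ := DoubleCoset.mem_doubleCoset.1 h
    · exact Or.inl (DoubleCoset.mem_doubleCoset.2 ⟨⟨x, B_le_parabolic J hx⟩, hx, ⟨y, B_le_parabolic J hy⟩, hy,
        Subtype.ext h⟩)
    · exact Or.inr (DoubleCoset.mem_doubleCoset.2 ⟨⟨x, B_le_parabolic J hx⟩, hx, ⟨y, B_le_parabolic J hy⟩, hy,
        Subtype.ext h⟩)
  conj_ne s hs h := by
    obtain ⟨b, hb, k⟩ := exists_conj_not_mem P (hJ hs)
    have : s * ⟨b, B_le_parabolic J hb⟩ * s ∈ (P.B.subgroupOf (P.parabolic J) : Set (P.parabolic J)) := by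
      rw [← h]; exact ⟨⟨b, B_le_parabolic J hb⟩, hb, rfl⟩
    exact k this

omit [Finite G] in
theorem sim_ne {i j : P.S} : sim P j * sim P i ≠ sim P i * sim P j ↔ ((j : G) * i)⁻¹ * (i * j) ∉ P.B :=
  by
  have := weyl_mk_eq_iff P (⟨j, P.subset j.2⟩ * ⟨i, P.subset i.2⟩) (⟨i, P.subset i.2⟩ * ⟨j, P.subset j.2⟩)
  rw [QuotientGroup.mk_mul, QuotientGroup.mk_mul] at this
  exact not_congr this

theorem regS (hirr : P.Irreducible) (h2 : 2 ≤ P.rank) {U : Subgroup G} (hU : Spl P U) (i : P.S) :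
    RegS P U i := by
  obtain ⟨j, hj⟩ : ∃ j : P.S, sim P j * sim P i ≠ sim P i * sim P j := by
    have : Nontrivial P.S := Finite.one_lt_card_iff_nontrivial.1 h2
    obtain ⟨k, hk⟩ := exists_ne i
    obtain ⟨_, rfl, t, -, e⟩ := exists_not_commute_of_irreducible hirr (Set.singleton_nonempty i)
      fun e => hk (show k ∈ ({i} : Set P.S) from e ▸ Set.mem_univ k)
    exact ⟨t, e⟩
  have hJ : ({(i : G), (j : G)} : Set G) ⊆ P.S := by rintro _ (rfl | rfl); exacts [i.2, j.2]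
  let L := bnPar P _ hJ
  have hL : Spl L (U.subgroupOf _) := by
    have := hU.nil
    refine ⟨fun u hu => hU.le hu, fun b hb u hu => hU.nor _ hb _ hu, Group.nilpotent_of_mulEquiv
      (subgroupOfEquivOfLe (hU.le.trans (B_le_parabolic _))).symm, fun b hb => ?_⟩
    obtain ⟨u, hu, k⟩ := hU.sup b hb
    exact ⟨⟨u, B_le_parabolic _ (hU.le hu)⟩, hu, mem_sup_right (mem_inf.2 ⟨mul_mem (inv_mem (hU.le hu)) hb, k⟩)⟩
  let φ := QuotientGroup.mk' L.B.normalCore
  have hk : φ.ker ≤ L.B := by rw [QuotientGroup.ker_mk']; exact normalCore_le _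
  let i' : P.parabolic {(i : G), (j : G)} := ⟨i, mem_parabolic_of_mem (Or.inl rfl)⟩
  let j' : P.parabolic {(i : G), (j : G)} := ⟨j, mem_parabolic_of_mem (Or.inr rfl)⟩
  have := regS_two (P := bnMap L φ (QuotientGroup.mk'_surjective _) hk) (i := ⟨φ i', i', Or.inl rfl, rfl⟩)
    (j := ⟨φ j', j', Or.inr rfl, rfl⟩) (by
      refine (eq_bot_iff_forall _).2 fun x hx => ?_
      obtain ⟨x, rfl⟩ := QuotientGroup.mk'_surjective _ x
      exact (QuotientGroup.eq_one_iff x).2 fun b => (mem_map_of_ker_le hk).1 (by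
        rw [map_mul, map_mul, map_inv]; exact hx (φ b)))
    (by
      rintro ⟨_, x, e | e, rfl⟩
      · exact Or.inl (Subtype.ext (congrArg φ (Subtype.ext e)))
      · exact Or.inr (Subtype.ext (congrArg φ (Subtype.ext e))))
    (sim_ne.2 fun e => sim_ne.1 hj ((mem_map_of_ker_le hk (x := (j' * i')⁻¹ * (i' * j'))).1 (by
      rw [map_mul, map_inv, map_mul, map_mul]; exact e)))
    (hL.map _ _ _)
  intro u hu k b hb
  let u' : P.parabolic {(i : G), (j : G)} := ⟨u, B_le_parabolic _ (hU.le hu)⟩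
  let b' : P.parabolic {(i : G), (j : G)} := ⟨b, B_le_parabolic _ hb⟩
  exact (mem_map_of_ker_le hk (x := (b' * i')⁻¹ * u' * (b' * i'))).1 (by
    rw [map_mul, map_mul, map_inv, map_mul]
    exact this (φ u') ⟨u', hu, rfl⟩ ⟨i'⁻¹ * u' * i', k, by simp⟩ (φ b') ⟨b', hb, rfl⟩)

theorem Spl.disj (hirr : P.Irreducible) (h2 : 2 ≤ P.rank) (hc : P.B.normalCore = ⊥) {U : Subgroup G}
    (hU : Spl P U) {u : G} (hu : u ∈ U) (h : u ∈ P.N) : u = 1 := by
  obtain ⟨Δ, a, hδ, ha, hn⟩ := jobBld G P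
  have := ha.eq_one (φ := MulAction.toPerm u) ⟨fun x y => by rw [hδ]; exact wdist_smul u x y,
    N_fix hn (hU.le hu) h⟩ 1 fun k x hx => by
      obtain ⟨x, rfl⟩ := QuotientGroup.mk_surjective x
      rw [H38.BNF.a_one hn, hδ, wdist_mk, inv_one, one_mul, wOf_eq_iff] at hx
      obtain ⟨b, hb, b', hb', rfl⟩ := (inCell_sim k).exists_eq hx
      rw [QuotientGroup.mk_mul_of_mem _ hb']
      exact fix_mk.2 (regS hirr h2 hU k u hu (by
        simpa using P.conj_mem _ (inv_mem (P.subset k.2)) u ⟨hU.le hu, h⟩) b hb)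
  exact core_of hc fun x => congrFun (congrArg (⇑) this) x

theorem Spl.unique0 (hirr : P.Irreducible) (h2 : 2 ≤ P.rank) (hc : P.B.normalCore = ⊥) {U U' : Subgroup G}
    (h : Spl P U) (h' : Spl P U') : U' ≤ U := fun v hv => by
  have hV : Spl P (U ⊔ U') := ⟨sup_le h.le h'.le, fun b hb u hu => by
      have : U ⊔ U' ≤ H98.cj b⁻¹ (U ⊔ U') := sup_le
        (fun a ha => H98.mem_cj.2 (mem_sup_left (by simpa using h.nor b hb a ha)))
        (fun a ha => H98.mem_cj.2 (mem_sup_right (by simpa using h'.nor b hb a ha)))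
      simpa using H98.mem_cj.1 (this hu),
    H46.nil_sup_of_nrm (le_nor fun g hg => h.nor g (h'.le hg)) (le_nor fun g hg => h'.nor g (h.le hg))
      h.nil h'.nil, fun b hb => (h.sup b hb).imp fun _ k => ⟨mem_sup_left k.1, k.2⟩⟩
  obtain ⟨u, hu, k⟩ := h.sup v (h'.le hv)
  exact inv_mul_eq_one.1 (hV.disj hirr h2 hc (mul_mem (inv_mem (mem_sup_left hu)) (mem_sup_right hv)) k) ▸ hu

theorem Spl.unique {G : Type*} [Group G] [Finite G] {P : BNPair G} (hirr : P.Irreducible) (h2 : 2 ≤ P.rank)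
    (hc : P.B.normalCore = ⊥) {U U' : Subgroup G} (h : Spl P U) (h' : Spl P U') : U' ≤ U := by
  obtain ⟨G', _, _, ⟨e⟩⟩ := Finite.exists_type_univ_nonempty_mulEquiv.{_, 0} G
  have hk : e.toMonoidHom.ker ≤ P.B := by
    rw [(MonoidHom.ker_eq_bot_iff _).2 e.injective]; exact bot_le
  rw [← map_le_map_iff_of_injective (f := e.toMonoidHom) e.injective]
  refine Spl.unique0 (bnMap_irreducible hirr _ e.surjective hk)
    (h2.trans_eq (Nat.card_image_of_injective e.injective _).symm) ((eq_bot_iff_forall _).2 fun x hx => ?_)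
    (h.map _ _ _) (h'.map _ _ _)
  obtain ⟨x, rfl⟩ := e.surjective x
  have : x ∈ P.B.normalCore := fun b => (mem_map_of_ker_le hk).1 (by
    rw [map_mul, map_mul, map_inv]; exact hx (e b))
  rw [hc] at this
  rw [mem_bot.1 this, map_one]

end H12.BP
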