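/- Interface for the split (B,N)-pair tower: the rank one fact for the prime 2. -/
import Cfsg.Agent.Base

set_option autoImplicit false

namespace H12.BP

universe u

/-- A transitive group whose point stabiliser has a normal 2-subgroup `Q` transitive on the other
points: `Q` acts regularly modulo the kernel, or the degree is 9 (the affine plane of order 3). -/
def JobHE : Prop :=
  ∀ (G Ω : Type u) [Group G] [Finite G] [MulAction G Ω] [Finite Ω] (x : Ω) (Q : Subgroup G),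
    IsPGroup 2 Q → (∀ u ∈ Q, u • x = x) → (∀ g : G, g • x = x → ∀ u ∈ Q, g * u * g⁻¹ ∈ Q) →
    (∀ y z : Ω, y ≠ x → z ≠ x → ∃ u ∈ Q, u • y = z) → (∀ y : Ω, ∃ g : G, g • x = y) →
    (∀ u ∈ Q, ∀ y : Ω, y ≠ x → u • y = y → ∀ z : Ω, u • z = z) ∨
    (Nat.card Ω = 9 ∧
      (∀ u v : G, u • x = x → v • x = x → (∀ z : Ω, u • u • z = z) → (∀ z : Ω, v • v • z = z) →
        (∀ y : Ω, y ≠ x → u • y ≠ y) → (∀ y : Ω, y ≠ x → v • y ≠ y) → ∀ z : Ω, u • z = v • z) ∧
      ∃ u ∈ Q, ∀ y : Ω, y ≠ x → u ^ 4 • y ≠ y)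

end H12.BP
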