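import Cfsg.Agent.H14.CBSpec

/-! Tower CB, job Card. -/

set_option autoImplicit false

namespace H12.CBC

open Cfsg Subgroup MulAction H14 H98 H1.Gold H31.S2 H14.GC H14.FE H14.NF H14.CB
open scoped commutatorElement Pointwise

universe u

variable {G : Type u} [Group G]

theorem nor_of {A B : Subgroup G} (h : ∀ a ∈ A, ∀ b ∈ B, a * b * a⁻¹ ∈ B) :
    A ≤ normalizer (B : Set G) := fun a ha => mem_normalizer_iff.2 fun b =>
  ⟨h a ha b, fun e => by simpa [mul_assoc] using h _ (inv_mem ha) _ e⟩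

theorem dec {A B : Subgroup G} (h : A ≤ normalizer (B : Set G)) {x : G} (hx : x ∈ B ⊔ A) :
    ∃ a ∈ A, ∃ b ∈ B, x = a * b := by
  rw [sup_comm, ← SetLike.mem_coe, coe_mul_of_left_le_normalizer_right A B h] at hx
  obtain ⟨a, ha, b, hb, e⟩ := hx
  exact ⟨a, ha, b, hb, e.symm⟩

theorem jobCard : JCard.{u} := by
  intro G _ _ Q E tg Q₁ T P S ln sec
  obtain ⟨g, rfl, rfl⟩ := ln.col.p2
  have EP : E ≤ P := ln.pg.lt.le
  have nP : cj g E ≤ normalizer (P : Set G) := nor_of fun t ht y hy => by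
    have := mul_mem (EP (ln.pg.cm t ht y hy)) hy
    rwa [commutatorElement_def, inv_mul_cancel_right] at this
  have nE : cj g E ≤ normalizer (E : Set G) := ln.col.comm.trans (centralizer_le_normalizer _)
  have sp : ∀ y ∈ S, y ∈ P → y ∈ E := fun y hy hp => by_contra fun e => ln.pg.sq y hp e (sec.el y hy)
  have uq : ∀ S₁ S₂, Sec E (cj g E) P S₁ → Sec E (cj g E) P S₂ → S₁ ≤ S₂ := fun S₁ S₂ a b x hx =>
    (b.inv x (a.le hx) (a.el x hx)).elim (fun e => b.lE (a.inf ⟨hx, e⟩)) id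
  have pe : P ⊓ (E ⊔ cj g E) = E := by
    refine le_antisymm (fun x ⟨h1, h2⟩ => ?_) (le_inf EP le_sup_left)
    obtain ⟨t, ht, e, he, rfl⟩ := dec nE h2
    have tP : t ∈ P := (mul_mem_cancel_right (EP he)).1 h1
    have t1 : t = 1 := by_contra fun n => by
      refine tg.ti 1 g (by rw [cj_one]; exact ln.col.ne) t
        ⟨by rw [cj_one]; exact (ln.pg.le tP).1, cj_mono g tg.le ht⟩ ⟨n, ?_⟩
      obtain ⟨s, hs, rfl⟩ := ht
      rw [← map_mul, tg.el s hs, map_one]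
    rwa [t1, one_mul]
  have hE : ∀ h ∈ nor P ⊓ nor (E ⊔ cj g E), h ∈ nor E := fun h hh => cj_eq_self_iff.1 (by
    conv_lhs => rw [← pe, cj_inf, cj_eq_self hh.1, cj_eq_self hh.2, pe])
  have hPT : ∀ h ∈ nor P ⊓ nor (E ⊔ cj g E), h ∈ nor (P ⊔ cj g E) := fun h hh => by
    have e : P ⊔ cj g E = P ⊔ (E ⊔ cj g E) := by rw [← sup_assoc, sup_eq_left.2 EP]
    exact cj_eq_self_iff.1 (by rw [e, cj_sup, cj_eq_self hh.1, cj_eq_self hh.2])
  refine ⟨?_, fun x ⟨h1, h2⟩ => ?_, fun S' h => le_antisymm (uq _ _ h sec) (uq _ _ sec h),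
    fun h hh => ⟨nor_of (A := nor P ⊓ nor (E ⊔ cj g E)) (fun k hk x hx => ?_) hh, hE h hh, ?_,
      hPT h hh⟩⟩
  · choose y hy hS _ using sec.cov1
    have := Nat.card_le_card_of_surjective (fun a : cj g E × E =>
      (⟨a.1 * y a.1 a.1.2 * a.2, mul_mem (hS _ _) (sec.lE a.2.2)⟩ : S)) fun ⟨x, hx⟩ => by
        obtain ⟨t, ht, z, hz, rfl⟩ := dec nP (sec.le hx)
        refine ⟨(⟨t, ht⟩, ⟨(y t ht)⁻¹ * z, sp _ ?_ (mul_mem (inv_mem (hy t ht)) hz)⟩),
          Subtype.ext (by simp [mul_assoc])⟩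
        simpa [mul_assoc] using mul_mem (inv_mem (hS t ht)) hx
    rwa [Nat.card_prod, card_cj] at this
  · obtain ⟨t, ht, y, hy, rfl⟩ := dec nP (sec.le h1)
    by_cases e : y ∈ E
    · exact sec.inf ⟨h1, mul_mem (mem_sup_right ht) (mem_sup_left e)⟩
    · have c : y * (t * y) = t * y * y := mem_centralizer_iff.1 h2 y hy
      have t1 : t = 1 := by_contra fun n => ln.pg.nd y hy e t ht n (commutatorElement_eq_one_iff_mul_comm.2
        (mul_right_cancel (b := y) (by rw [← c, mul_assoc])))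
      rw [t1, one_mul] at h1 ⊢
      exact sp y h1 hy
  · by_cases e : x ∈ E ⊔ cj g E
    · exact sec.lE ((mem_normalizer_iff.1 (hE k hk) x).1 (sec.inf ⟨hx, e⟩))
    · refine (sec.inv _ ((mem_normalizer_iff.1 (hPT k hk) x).1 (sec.le hx)) ?_).resolve_left
        fun e' => e ((mem_normalizer_iff.1 hk.2 x).2 e')
      rw [conj_mul, sec.el x hx]
      simp
  · obtain ⟨s, hs, -, -, i, -⟩ := tg.four
    by_contra n
    refine tg.ti 1 h (fun e => n (cj_eq_self_iff.1 (by rw [← e, cj_one]))) s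
      ⟨by rw [cj_one]; exact tg.le hs, cj_mono h tg.le ?_⟩ i
    rwa [cj_eq_self (hE h hh)]

end H12.CBC
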