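/- CL3 tower (S3621), chapter 3: definitions and jobs.  Proofs: blueprints/CL3b.md. -/
import Cfsg.Agent.H91.CL3Def

set_option autoImplicit false

open Module

namespace H12.CL

section W

variable {r : ℕ} {W : Type} [AddCommGroup W] [Module (ZMod r) W]

/-- A non-degenerate alternating form. -/
structure Sp (B : LinearMap.BilinForm (ZMod r) W) : Prop where
  alt : ∀ a, B a a = 0
  nd : ∀ a, (∀ b, B a b = 0) → a = 0

/-- Orthogonal type: the good vectors are the singular vectors of a quadratic form. -/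
def TyO (B : LinearMap.BilinForm (ZMod r) W) (Gd : W → Prop) : Prop :=
  r = 2 ∧ ∃ Q : W → ZMod r, (∀ a b, Q (a + b) = Q a + Q b + B a b) ∧ ∀ a, Gd a ↔ Q a = 0

def Ty (B : LinearMap.BilinForm (ZMod r) W) (Gd : W → Prop) : Prop := (∀ a, Gd a) ∨ TyO B Gd

/-- A frame `W = (M + N) ⊥ D`. -/
structure Fr (B : LinearMap.BilinForm (ZMod r) W) (Gd : W → Prop) (M N D : Submodule (ZMod r) W) :
    Prop where
  gM : ∀ m ∈ M, Gd m
  gN : ∀ n ∈ N, Gd n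
  iM : ∀ m ∈ M, ∀ m' ∈ M, B m m' = 0
  iN : ∀ n ∈ N, ∀ n' ∈ N, B n n' = 0
  oM : ∀ m ∈ M, ∀ d ∈ D, B m d = 0
  oN : ∀ n ∈ N, ∀ d ∈ D, B n d = 0
  an : ∀ d ∈ D, Gd d → d = 0
  dec : ∀ w, ∃ m ∈ M, ∃ n ∈ N, ∃ d ∈ D, w = m + n + d

/-- `X = Y Z` with a subgroup `Z` all of whose elements satisfy `P`. -/
def Fac {A : Type} [Group A] (X Y : Subgroup A) (P : A → Prop) : Prop :=
  ∃ Z : Subgroup A, Z ≤ X ∧ (∀ φ ∈ X, ∃ y ∈ Y, y⁻¹ * φ ∈ Z) ∧ ∀ φ ∈ Z, P φ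

/-- What the stabiliser of a coloured vector satisfies. -/
def Col (B : LinearMap.BilinForm (ZMod r) W) (M N : Submodule (ZMod r) W) (Sg : Finset W)
    (φ : W ≃ₗ[ZMod r] W) : Prop :=
  (∀ m ∈ M, φ m ∈ M) ∧ (∀ w ∈ Sg, ∃ w' ∈ Sg, φ w - w' ∈ M) ∧
    ((∀ a ∈ N, φ a - a ∈ M ∧ B (φ a) a = 0) → ∃ ψ : W → ZMod r,
      (∀ b ∈ N, ∀ c ∈ N, ψ (b + c) = ψ b + ψ c + B (φ b) c) ∧ ∀ a ∈ Sg, a ∈ N → ψ a = 0)

/-- The abstract situation for `r = 2`. -/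
structure F2 (B : LinearMap.BilinForm (ZMod r) W) (Gd : W → Prop)
    (X Y : Subgroup (W ≃ₗ[ZMod r] W)) : Prop where
  sp : Sp B
  ty : Ty B Gd
  le : Y ≤ X
  sol : Group.IsSolvable Y
  irr : ∀ T : Submodule (ZMod r) W, (∀ y ∈ Y, ∀ a ∈ T, y a ∈ T) → T = ⊥ ∨ T = ⊤
  pB : ∀ φ ∈ X, ∀ a b, B (φ a) (φ b) = B a b
  pG : ∀ φ ∈ X, ∀ a, Gd (φ a) ↔ Gd a
  c1 : ∀ M N D M' N' D', Fr B Gd M N D → Fr B Gd M' N' D' →
    Fac X Y fun φ => (∀ m ∈ M, φ m ∈ M) ∧ ∀ m ∈ M', φ m ∈ M'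
  c2 : ∀ M N D, Fr B Gd M N D → ∀ y, Fac X Y fun φ => (∀ m ∈ M, φ m ∈ M) ∧ φ y - y ∈ M
  c3 : ∀ M N D, Fr B Gd M N D → 3 ≤ finrank (ZMod r) M → ∀ s ∈ M, ∀ s' ∈ M,
    Fac X Y fun φ => φ s = s ∧ φ s' = s'
  c4 : ∀ M N D, Fr B Gd M N D → ∀ Sg : Finset W, 0 ∈ Sg →
    (∀ w ∈ Sg, ∀ w' ∈ Sg, w - w' ∈ M ⊔ D → w = w') → Fac X Y (Col B M N Sg)

end W

/-- The endgame for `r = 2` (captain helper53). -/
def JobF2 : Prop :=
  ∀ (W : Type) [AddCommGroup W] [Module (ZMod 2) W] [Finite W] (B : LinearMap.BilinForm (ZMod 2) W)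
    (Gd : W → Prop) (X Y : Subgroup (W ≃ₗ[ZMod 2] W)) (M N D : Submodule (ZMod 2) W),
    F2 B Gd X Y → Fr B Gd M N D → TyO B Gd ∨ finrank (ZMod 2) M ≤ 2 → Group.IsSolvable X

/-- Frames exist, through any good vector. -/
def JobHB : Prop :=
  ∀ (r : ℕ) [Fact r.Prime] (W : Type) [AddCommGroup W] [Module (ZMod r) W] [Finite W]
    (B : LinearMap.BilinForm (ZMod r) W) (Gd : W → Prop), Sp B → Ty B Gd →
    ∀ x, Gd x → ∃ M N D, Fr B Gd M N D ∧ x ∈ M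

/-- A projective representation `t` of `W` on `V` with commutator form `χ ∘ B`. -/
structure Ex (r : ℕ) (K V W : Type) [Field K] [AddCommGroup V] [Module K V] [AddCommGroup W]
    [Module (ZMod r) W] where
  t : W → End K V
  χ : ZMod r → K
  B : LinearMap.BilinForm (ZMod r) W
  sp : Sp B
  χ_add : ∀ i j, χ (i + j) = χ i * χ j
  χ_eq : ∀ i, χ i = 1 ↔ i = 0
  t_zero : t 0 = 1
  t_mul : ∀ a b, ∃ c : K, c ≠ 0 ∧ t a * t b = c • t (a + b)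
  comm : ∀ a b, t a * t b = χ (B a b) • (t b * t a)
  tg : ∀ a v (c : K), v ≠ 0 → t a v = c • v → t a ^ r = 1

namespace Ex

variable {r : ℕ} {K V W : Type} [Field K] [AddCommGroup V] [Module K V] [AddCommGroup W]
  [Module (ZMod r) W] (S : Ex r K V W)

/-- `t a` fixes the point of `v`. -/
def St (v : V) (a : W) : Prop := ∃ c : K, S.t a v = c • v

/-- Good vectors. -/
def Gd (a : W) : Prop := ∃ v : V, v ≠ 0 ∧ S.St v a

/-- The semilinear map `h` induces `φ`. -/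
def Ind (h : V ≃+ V) (φ : W ≃ₗ[ZMod r] W) : Prop :=
  (∃ σ : K ≃+* K, ∀ (a : K) (v : V), h (a • v) = σ a • h v) ∧
    ∀ a, ∃ c : K, c ≠ 0 ∧ ∀ v, h (S.t a v) = c • S.t (φ a) (h v)

/-- `φ` is induced by a semilinear map fixing the points of `u` and `v`. -/
def Fx (u v : V) (φ : W ≃ₗ[ZMod r] W) : Prop :=
  ∃ h, S.Ind h φ ∧ (∃ a : K, h u = a • u) ∧ ∃ b : K, h v = b • v

/-- `v` lies in the joint eigenspace of `M` that contains `t w v₀`. -/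
def Cm (M : Submodule (ZMod r) W) (v₀ : V) (w : W) (v : V) : Prop :=
  ∀ m ∈ M, ∀ c : K, S.t m v₀ = c • v₀ → S.t m v = (S.χ (S.B m w) * c) • v

/-- A base point with the projections onto the joint eigenspaces of `M`. -/
structure Pt (M D : Submodule (ZMod r) W) (v₀ : V) (P : W → End K V) : Prop where
  ne : v₀ ≠ 0
  st : ∀ a, S.St v₀ a ↔ a ∈ M
  self : ∀ w w' v, S.Cm M v₀ w' v → w - w' ∈ M ⊔ D → P w v = v
  zero : ∀ w w' v, S.Cm M v₀ w' v → w - w' ∉ M ⊔ D → P w v = 0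
  ext : ∀ T : End K V, (∀ w v, S.Cm M v₀ w v → T v = 0) → T = 0

/-- `y` is locally a multiple of some `t a`. -/
def Loc (y : End K V) : Prop := ∀ v, ∃ a, ∃ c : K, y v = c • S.t a v

end Ex

/-- A statement about all projective representations. -/
def AllX (P : ∀ (r : ℕ) (K V W : Type) [Field K] [AddCommGroup V] [Module K V] [AddCommGroup W]
    [Module (ZMod r) W], Ex r K V W → Prop) : Prop :=
  ∀ (r : ℕ) [Fact r.Prime] (K V W : Type) [Field K] [Finite K] [AddCommGroup V] [Module K V]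
    [Finite V] [Nontrivial V] [AddCommGroup W] [Module (ZMod r) W] [Finite W] [Nontrivial W]
    (S : Ex r K V W), P r K V W S

/-- The same with a frame and a base point. -/
def AllP (P : ∀ (r : ℕ) (K V W : Type) [Field K] [AddCommGroup V] [Module K V] [AddCommGroup W]
    [Module (ZMod r) W], Ex r K V W → (_ _ _ : Submodule (ZMod r) W) → V → Prop) : Prop :=
  AllX fun r K V W _ _ _ _ _ S => Ty S.B S.Gd → ∀ M N D v₀ Pj, Fr S.B S.Gd M N D →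
    S.Pt M D v₀ Pj → P r K V W S M N D v₀

def JobTY : Prop := AllX fun r _ _ W _ _ _ _ _ S =>
  (∀ T : Submodule (ZMod r) W, (∀ a, a ∈ T ↔ S.Gd a) → T = ⊥ ∨ T = ⊤) → Ty S.B S.Gd

def JobEIG : Prop := AllX fun _ _ _ _ _ _ _ _ _ S => Ty S.B S.Gd → ∀ M N D, Fr S.B S.Gd M N D →
  ∃ v₀ Pj, S.Pt M D v₀ Pj

def JobN1a : Prop := AllP fun r K V _ _ _ _ _ _ S M _ _ _ => ∀ y : End K V, S.Loc y →
  (∃ c : K, c ≠ 0 ∧ y ^ r = c • 1) → ∀ m ∈ M, ∃ j, y * S.t m = S.χ j • (S.t m * y)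

def JobCEN : Prop := AllP fun _ K V _ _ _ _ _ _ S _ _ _ _ => ∀ y : End K V, S.Loc y →
  (∀ a, y * S.t a = S.t a * y) → ∃ c : K, y = c • 1

def JobN0 : Prop := AllX fun _ K V _ _ _ _ _ _ S => Ty S.B S.Gd → (∀ a, S.Gd a → a = 0) →
  ∀ y : End K V, Function.Injective y → (∀ v, ∃ a, a ≠ 0 ∧ ∃ c : K, y v = c • S.t a v) →
    (∃ b, ∃ c : K, y = c • S.t b) ∨ (Nat.card K = 3 ∧ finrank K V = 2)

def JobREG : Prop := AllP fun r _ V _ _ _ _ _ _ S M _ _ _ => r ≠ 2 ∨ 3 ≤ finrank (ZMod r) M →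
  ∀ x ∈ M, x ≠ 0 → ∃ v : V, ∀ a, S.St v a ↔ a ∈ Submodule.span (ZMod r) {x}

def JobCARD : Prop := AllP fun _ _ V W _ _ _ _ _ _ _ _ D _ => D = ⊥ → Nat.card W < Nat.card V

def JobCOL : Prop := AllP fun r _ V W _ _ _ _ _ S M N D v₀ => r = 2 → ∀ Sg : Finset W, 0 ∈ Sg →
  (∀ w ∈ Sg, ∀ w' ∈ Sg, w - w' ∈ M ⊔ D → w = w') →
    ∃ u : V, ∀ φ, S.Fx u v₀ φ → Col S.B M N Sg φ

/-- A piece gives a projective representation. -/
def JobMK : Prop := H91.CL.AllK fun K V Γ _ _ _ _ _ sc G _ => ∀ E : Subgroup Γ,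
  H91.CL.Piece V sc G E → ∃ (r : ℕ) (_ : Fact r.Prime) (W : Type) (_ : AddCommGroup W)
    (_ : Module (ZMod r) W) (_ : Finite W) (_ : Nontrivial W) (S : Ex r K V W) (p : Γ → W),
    (∀ x ∈ E, ∀ y ∈ E, p (x * y) = p x + p y) ∧ (∀ a, ∃ x ∈ E, p x = a) ∧
    (∀ x ∈ E, p x = 0 ↔ x ∈ sc.range) ∧ (∀ x ∈ E, x ^ r ∈ sc.range) ∧
    ∀ x ∈ E, ∃ c : K, c ≠ 0 ∧ ∀ v : V, x • v = c • S.t (p x) v

/-- A semilinear group on a plane over the field with three elements is solvable. -/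
def JobGL : Prop := H91.CL.AllK fun K V _ _ _ _ _ _ _ _ H =>
  Nat.card K = 3 → finrank K V = 2 → Group.IsSolvable H

end H12.CL
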