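/- CL3 tower (S3621), chapter 3: kit. -/
import Cfsg.Agent.H12.CLSpec

set_option autoImplicit false
set_option linter.unusedSectionVars false

open Module

namespace H12.CL

theorem z2_eq_one : ∀ i : ZMod 2, i ≠ 0 → i = 1 := by decide
theorem z2_cases : ∀ j : ZMod 2, j = 0 ∨ j = 1 := by decide
theorem z2_ne : (1 : ZMod 2) + 1 ≠ 1 := by decide

section W

variable {r : ℕ} [Fact r.Prime] {W : Type} [AddCommGroup W] [Module (ZMod r) W]
  {B : LinearMap.BilinForm (ZMod r) W} {Gd : W → Prop} {M N D : Submodule (ZMod r) W}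

theorem Sp.skew (sp : Sp B) (a b : W) : B a b = -B b a := by
  have := sp.alt (a + b)
  simp only [map_add, LinearMap.add_apply, sp.alt] at this
  linear_combination this

theorem Sp.zero_comm (sp : Sp B) {a b : W} (h : B a b = 0) : B b a = 0 := by
  rw [sp.skew, h, neg_zero]

theorem Fr.symm (fr : Fr B Gd M N D) : Fr B Gd N M D :=
  ⟨fr.gN, fr.gM, fr.iN, fr.iM, fr.oN, fr.oM, fr.an, fun w => by
    obtain ⟨m, hm, n, hn, d, hd, e⟩ := fr.dec w
    exact ⟨n, hn, m, hm, d, hd, by rw [e, add_comm m]⟩⟩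

/-- An element of `M` orthogonal to `N` is zero (use `fr.symm` for the other side). -/
theorem Fr.eq_zero (fr : Fr B Gd M N D) (sp : Sp B) {m : W} (hm : m ∈ M)
    (h : ∀ n ∈ N, B m n = 0) : m = 0 :=
  sp.nd m fun w => by
    obtain ⟨m', hm', n, hn, d, hd, rfl⟩ := fr.dec w
    rw [map_add, map_add, fr.iM m hm m' hm', h n hn, fr.oM m hm d hd, add_zero, add_zero]

theorem Fr.eq_zero_D (fr : Fr B Gd M N D) (sp : Sp B) {d : W} (hd : d ∈ D)
    (h : ∀ e ∈ D, B d e = 0) : d = 0 :=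
  sp.nd d fun w => by
    obtain ⟨m, hm, n, hn, e, he, rfl⟩ := fr.dec w
    rw [map_add, map_add, sp.zero_comm (fr.oM m hm d hd), sp.zero_comm (fr.oN n hn d hd), h e he,
      add_zero, add_zero]

theorem Fr.orth (fr : Fr B Gd M N D) {w : W} (hw : w ∈ M ⊔ D) {m : W} (hm : m ∈ M) : B m w = 0 := by
  obtain ⟨m', hm', d, hd, rfl⟩ := Submodule.mem_sup.1 hw
  rw [map_add, fr.iM m hm m' hm', fr.oM m hm d hd, add_zero]

theorem Fr.N_inf (fr : Fr B Gd M N D) (sp : Sp B) {n : W} (hn : n ∈ N) (h : n ∈ M ⊔ D) : n = 0 :=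
  fr.symm.eq_zero sp hn fun _ hm => sp.zero_comm (fr.orth h hm)

/-- `M ⊔ D = M^⊥`. -/
theorem Fr.mem_sup_iff (fr : Fr B Gd M N D) (sp : Sp B) {w : W} :
    w ∈ M ⊔ D ↔ ∀ m ∈ M, B m w = 0 := by
  refine ⟨fun h m hm => fr.orth h hm, fun h => ?_⟩
  obtain ⟨m, hm, n, hn, d, hd, rfl⟩ := fr.dec w
  have : n = 0 := fr.symm.eq_zero sp hn fun m' hm' => sp.zero_comm (by
    have := h m' hm'
    rwa [map_add, map_add, fr.iM m' hm' m hm, fr.oM m' hm' d hd, add_zero, zero_add] at this)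
  rw [this, add_zero]
  exact Submodule.add_mem_sup hm hd

theorem Fr.D_bot (fr : Fr B Gd M N D) (h : ∀ a, Gd a) : D = ⊥ :=
  eq_bot_iff.2 fun d hd => fr.an d hd (h d)

theorem Fr.mem_of_good (fr : Fr B Gd M N D) (ty : Ty B Gd) {w : W} (hg : Gd w) (hw : w ∈ M ⊔ D) :
    w ∈ M := by
  obtain ⟨m, hm, d, hd, rfl⟩ := Submodule.mem_sup.1 hw
  have : Gd d := by
    rcases ty with h | ⟨-, Q, hQ, hG⟩
    · exact h d
    · have := (hG _).1 hg
      rw [hQ, (hG _).1 (fr.gM m hm), fr.oM m hm d hd, zero_add, add_zero] at this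
      exact (hG _).2 this
  rw [fr.an d hd this, add_zero]
  exact hm

theorem Fr.finrank_le [Finite W] (fr : Fr B Gd M N D) (sp : Sp B) :
    finrank (ZMod r) M ≤ finrank (ZMod r) N := by
  rw [← Subspace.dual_finrank_eq (V := N)]
  refine LinearMap.finrank_le_finrank_of_injective
    (f := N.subtype.dualMap ∘ₗ (B ∘ₗ M.subtype)) ((injective_iff_map_eq_zero _).2 fun m hm => ?_)
  exact Subtype.ext (fr.eq_zero sp m.2 fun n hn => congrArg (· ⟨n, hn⟩) hm)

theorem Fr.finrank_eq [Finite W] (fr : Fr B Gd M N D) (sp : Sp B) :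
    finrank (ZMod r) M = finrank (ZMod r) N :=
  le_antisymm (fr.finrank_le sp) (fr.symm.finrank_le sp)

theorem card_sub [Finite W] (M : Submodule (ZMod r) W) : Nat.card M = r ^ finrank (ZMod r) M := by
  rw [Module.natCard_eq_pow_finrank (K := ZMod r), Nat.card_zmod]

theorem Fr.card_eq [Finite W] (fr : Fr B Gd M N D) (sp : Sp B) : Nat.card M = Nat.card N := by
  rw [card_sub, card_sub, fr.finrank_eq sp]

theorem Fr.card (fr : Fr B Gd M N D) (sp : Sp B) :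
    Nat.card W = Nat.card M * Nat.card N * Nat.card D := by
  rw [← Nat.card_prod, ← Nat.card_prod]
  let f : (M × N) × D →+ W := AddMonoidHom.mk' (fun x => x.1.1.1 + x.1.2.1 + x.2.1) fun x y => by
    simp only [Prod.fst_add, Prod.snd_add, Submodule.coe_add]; abel
  refine (Nat.card_eq_of_bijective f ⟨(injective_iff_map_eq_zero _).2 ?_, fun w => ?_⟩).symm
  · rintro ⟨⟨⟨m, hm⟩, n, hn⟩, d, hd⟩ h
    change m + n + d = 0 at h
    have e : n = 0 := fr.N_inf sp hn (by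
      rw [show n = -(m + d) by linear_combination (norm := module) h]
      exact neg_mem (Submodule.add_mem_sup hm hd))
    have e' : m = 0 := fr.symm.N_inf sp hm (by
      rw [show m = -(n + d) by linear_combination (norm := module) h]
      exact neg_mem (Submodule.add_mem_sup hn hd))
    subst e e'
    have : d = 0 := by simpa using h
    subst this
    rfl
  · obtain ⟨m, hm, n, hn, d, hd, rfl⟩ := fr.dec w
    exact ⟨((⟨m, hm⟩, ⟨n, hn⟩), ⟨d, hd⟩), rfl⟩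

/-- The anisotropic part has four elements if it is not zero. -/
theorem Fr.four (fr : Fr B Gd M N D) (sp : Sp B) (ty : Ty B Gd) {d : W} (hd : d ∈ D) (h0 : d ≠ 0) :
    r = 2 ∧ ∃ d' ∈ D, B d d' = 1 ∧ ∀ e ∈ D, e = 0 ∨ e = d ∨ e = d' ∨ e = d + d' := by
  rcases ty with h | ⟨rfl, Q, hQ, hG⟩
  · exact absurd (fr.an d hd (h d)) h0
  refine ⟨rfl, ?_⟩
  have z2 := z2_eq_one
  have two : ∀ w : W, w + w = 0 := fun w => by
    rw [← two_smul (ZMod 2), show (2 : ZMod 2) = 0 from rfl, zero_smul]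
  have q1 : ∀ e ∈ D, e ≠ 0 → Q e = 1 := fun e he k => z2 _ fun q => k (fr.an e he ((hG e).2 q))
  have b1 : ∀ e ∈ D, ∀ e' ∈ D, e ≠ 0 → e' ≠ 0 → e ≠ e' → B e e' = 1 := fun e he e' he' k k' kk => by
    have := hQ e e'
    rw [q1 e he k, q1 e' he' k', q1 _ (add_mem he he') fun z => kk (by
      linear_combination (norm := module) z - two e')] at this
    rw [show (1 : ZMod 2) + 1 = 0 from rfl, zero_add] at this
    exact this.symm
  obtain ⟨d', hd', hb⟩ : ∃ d' ∈ D, B d d' ≠ 0 := by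
    by_contra k
    push Not at k
    exact h0 (fr.eq_zero_D sp hd k)
  refine ⟨d', hd', z2 _ hb, fun e he => ?_⟩
  by_contra k
  push Not at k
  obtain ⟨k0, k1, k2, k3⟩ := k
  have n' : d' ≠ 0 := fun z => hb (by rw [z, map_zero])
  have n'' : d + d' ≠ 0 := fun z => hb (by
    rw [show d' = d by linear_combination (norm := module) z - two d, sp.alt])
  have := b1 e he _ (add_mem hd hd') k0 n'' k3
  rw [map_add, b1 e he d hd k0 h0 k1, b1 e he d' hd' k0 n' k2] at this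
  exact absurd this z2_ne

end W

namespace Ex

variable {r : ℕ} [Fact r.Prime] {K V W : Type} [Field K] [AddCommGroup V] [Module K V]
  [AddCommGroup W] [Module (ZMod r) W] (S : Ex r K V W)

theorem χ_zero : S.χ 0 = 1 := (S.χ_eq 0).2 rfl

theorem χ_neg_mul (j : ZMod r) : S.χ (-j) * S.χ j = 1 := by
  rw [← S.χ_add, neg_add_cancel, S.χ_zero]

theorem χ_ne (j : ZMod r) : S.χ j ≠ 0 := right_ne_zero_of_mul_eq_one (S.χ_neg_mul j)

theorem χ_neg (j : ZMod r) : S.χ (-j) = (S.χ j)⁻¹ := eq_inv_of_mul_eq_one_left (S.χ_neg_mul j)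

theorem χ_inj : Function.Injective S.χ := fun i j h => by
  have : S.χ (-j + i) = 1 := by rw [S.χ_add, h, S.χ_neg_mul]
  have := (S.χ_eq _).1 this
  linear_combination this

theorem χ_nsmul (n : ℕ) (j : ZMod r) : S.χ (n * j) = S.χ j ^ n := by
  induction n with
  | zero => simp [S.χ_zero]
  | succ n ih => rw [Nat.cast_succ, add_mul, S.χ_add, ih, one_mul, pow_succ]

theorem χ_pow (j : ZMod r) : S.χ j ^ r = 1 := by
  rw [← S.χ_nsmul, ZMod.natCast_self, zero_mul, S.χ_zero]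

theorem prim : IsPrimitiveRoot (S.χ 1) r :=
  ⟨S.χ_pow 1, fun l h => by
    rw [← S.χ_nsmul, mul_one, S.χ_eq] at h
    exact (ZMod.natCast_eq_zero_iff l r).1 h⟩

include S in
theorem r_ne : (r : K) ≠ 0 :=
  haveI : NeZero r := ⟨(Fact.out : r.Prime).ne_zero⟩
  (S.prim.neZero').out

include S in
theorem card_ne [Finite W] (M : Submodule (ZMod r) W) : (Nat.card M : K) ≠ 0 := by
  rw [card_sub, Nat.cast_pow]
  exact pow_ne_zero _ S.r_ne

theorem exists_χ {c : K} (h : c ^ r = 1) : ∃ j, c = S.χ j := by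
  have : NeZero r := ⟨(Fact.out : r.Prime).ne_zero⟩
  obtain ⟨i, -, rfl⟩ := S.prim.eq_pow_of_pow_eq_one h
  exact ⟨i, by rw [← S.χ_nsmul, mul_one]⟩

theorem χ_one_two (h : r = 2) : S.χ 1 = -1 := by
  subst h
  exact S.prim.eq_neg_one_of_two_right

/-- Character sums. -/
theorem sum_χ {A : Type} [AddCommGroup A] [Fintype A] (f : A →+ ZMod r) {a : A} (ha : f a ≠ 0) :
    ∑ b, S.χ (f b) = 0 := by
  have : ∑ b, S.χ (f b) = S.χ (f a) * ∑ b, S.χ (f b) := by
    rw [Finset.mul_sum, ← Equiv.sum_comp (Equiv.addLeft a)]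
    exact Finset.sum_congr rfl fun b _ => by simp [S.χ_add]
  by_contra k
  exact ha ((S.χ_eq _).1 (mul_right_cancel₀ k (this.symm.trans (one_mul _).symm)))

theorem t_mul_apply (a b : W) : ∃ c : K, c ≠ 0 ∧ ∀ v, S.t a (S.t b v) = c • S.t (a + b) v :=
  (S.t_mul a b).imp fun _ h => ⟨h.1, fun v => congrArg (· v) h.2⟩

theorem t_add_apply (a b : W) : ∃ c : K, c ≠ 0 ∧ ∀ v, S.t (a + b) v = c • S.t a (S.t b v) := by
  obtain ⟨c, hc, h⟩ := S.t_mul_apply a b
  exact ⟨c⁻¹, inv_ne_zero hc, fun v => by rw [h, inv_smul_smul₀ hc]⟩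

theorem comm_apply (a b : W) (v : V) : S.t a (S.t b v) = S.χ (S.B a b) • S.t b (S.t a v) :=
  congrArg (· v) (S.comm a b)

theorem t_neg_apply (a : W) : ∃ c : K, c ≠ 0 ∧ ∀ v, S.t a (S.t (-a) v) = c • v := by
  simpa [S.t_zero] using S.t_mul_apply a (-a)

theorem t_ne (a : W) {v : V} (hv : v ≠ 0) : S.t a v ≠ 0 := fun h => by
  obtain ⟨c, hc, k⟩ := S.t_neg_apply (-a)
  have := k v
  rw [neg_neg, h, map_zero] at this
  exact smul_ne_zero hc hv this.symm

theorem t_inj (a : W) : Function.Injective (S.t a) :=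
  (injective_iff_map_eq_zero _).2 fun _ h => by_contra fun k => S.t_ne a k h

theorem t_pow (a : W) (n : ℕ) : ∃ c : K, c ≠ 0 ∧ S.t a ^ n = c • S.t (n • a) := by
  induction n with
  | zero => exact ⟨1, one_ne_zero, by simp [S.t_zero]⟩
  | succ n ih =>
    obtain ⟨c, hc, h⟩ := ih
    obtain ⟨e, he, k⟩ := S.t_mul (n • a) a
    exact ⟨c * e, mul_ne_zero hc he, by rw [pow_succ, h, smul_mul_assoc, k, succ_nsmul, mul_smul]⟩

theorem t_pow_r (a : W) : ∃ c : K, c ≠ 0 ∧ S.t a ^ r = c • 1 := by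
  obtain ⟨c, hc, h⟩ := S.t_pow a r
  refine ⟨c, hc, ?_⟩
  rw [h, ← Nat.cast_smul_eq_nsmul (ZMod r), ZMod.natCast_self, zero_smul, S.t_zero]

/-- An operator whose `r`-th power is `c ^ r` has an eigenvector in every invariant subspace. -/
theorem exists_eig (T : End K V) (c : K) (hT : T ^ r = c ^ r • 1) (U : Submodule K V)
    (hU : ∀ v ∈ U, T v ∈ U) (h0 : U ≠ ⊥) : ∃ v ∈ U, v ≠ 0 ∧ ∃ j, T v = (S.χ j * c) • v := by
  by_contra k
  push Not at k
  have key : ∀ (s : Finset ℕ), ∀ v ∈ U, v ≠ 0 →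
      Polynomial.aeval T (∏ i ∈ s, (Polynomial.X - Polynomial.C (S.χ 1 ^ i * c))) v ≠ 0 := by
    intro s
    induction s using Finset.induction_on with
    | empty => intro v _ hv; simpa using hv
    | insert i s hi ih =>
      intro v hv h
      rw [Finset.prod_insert hi, mul_comm, map_mul, End.mul_apply]
      have e : Polynomial.aeval T (Polynomial.X - Polynomial.C (S.χ 1 ^ i * c)) v =
          T v - (S.χ 1 ^ i * c) • v := by
        rw [map_sub, Polynomial.aeval_X, Polynomial.aeval_C, LinearMap.sub_apply,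
          Module.algebraMap_end_apply]
      rw [e]
      refine ih _ (sub_mem (hU v hv) (U.smul_mem _ hv)) (sub_ne_zero.2 ?_)
      rw [← S.χ_nsmul]
      exact k v hv h _
  obtain ⟨v, hv, h⟩ := Submodule.exists_mem_ne_zero_of_ne_bot h0
  refine key (Finset.range r) v hv h ?_
  rw [← X_pow_sub_C_eq_prod S.prim (Fact.out : r.Prime).pos rfl]
  rw [map_sub, map_pow, Polynomial.aeval_X, Polynomial.aeval_C, LinearMap.sub_apply,
    Module.algebraMap_end_apply, hT]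
  simp

variable {S}

theorem St.ne {v : V} (hv : v ≠ 0) {a : W} (h : S.St v a) : ∃ c : K, c ≠ 0 ∧ S.t a v = c • v :=
  h.imp fun c k => ⟨fun z => S.t_ne a hv (by rw [k, z, zero_smul]), k⟩

theorem St.zero (v : V) : S.St v 0 := ⟨1, by simp [S.t_zero]⟩

theorem St.add {v : V} {a b : W} (h : S.St v a) (h' : S.St v b) : S.St v (a + b) := by
  obtain ⟨c, h⟩ := h
  obtain ⟨c', h'⟩ := h'
  obtain ⟨e, -, k⟩ := S.t_add_apply a b
  exact ⟨e * (c' * c), by rw [k, h', map_smul, h, mul_smul, mul_smul]⟩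

theorem St.smul {v : V} {a : W} (h : S.St v a) (j : ZMod r) : S.St v (j • a) := by
  obtain ⟨n, rfl⟩ := ZMod.natCast_zmod_surjective j
  rw [Nat.cast_smul_eq_nsmul]
  induction n with
  | zero => simpa using St.zero v
  | succ n ih => rw [succ_nsmul]; exact ih.add h

theorem St.gd {v : V} (hv : v ≠ 0) {a : W} (h : S.St v a) : S.Gd a := ⟨v, hv, h⟩

theorem Gd.smul {a : W} (h : S.Gd a) (j : ZMod r) : S.Gd (j • a) :=
  h.imp fun _ k => ⟨k.1, k.2.smul j⟩

theorem Gd.pow {a : W} (h : S.Gd a) : S.t a ^ r = 1 := by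
  obtain ⟨v, hv, c, h⟩ := h
  exact S.tg a v c hv h

theorem gd_zero [Nontrivial V] : S.Gd 0 := (exists_ne (0 : V)).imp fun v h => ⟨h, St.zero v⟩

section Cm

variable {M N D : Submodule (ZMod r) W} {v₀ v v' : V} {w w' : W} {P : W → End K V}

theorem Cm.self : S.Cm M v₀ 0 v₀ := fun m _ c h => by rw [h, map_zero, S.χ_zero, one_mul]

theorem Cm.t (h : S.Cm M v₀ w v) (a : W) : S.Cm M v₀ (w + a) (S.t a v) := fun m hm c k => by
  rw [S.comm_apply, h m hm c k, map_smul, smul_smul, map_add, S.χ_add]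
  congr 1
  ring

theorem Cm.t₀ (a : W) : S.Cm M v₀ a (S.t a v₀) := by simpa using (Cm.self (S := S)).t a

theorem Cm.zero : S.Cm M v₀ w 0 := fun _ _ _ _ => by simp

theorem Cm.add (h : S.Cm M v₀ w v) (h' : S.Cm M v₀ w v') : S.Cm M v₀ w (v + v') :=
  fun m hm c k => by rw [map_add, h m hm c k, h' m hm c k, smul_add]

theorem Cm.smul (h : S.Cm M v₀ w v) (e : K) : S.Cm M v₀ w (e • v) :=
  fun m hm c k => by rw [map_smul, h m hm c k, smul_comm]

theorem Cm.of_smul {e : K} (he : e ≠ 0) (h : S.Cm M v₀ w (e • v)) : S.Cm M v₀ w v := by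
  simpa [inv_smul_smul₀ he] using h.smul e⁻¹

theorem Cm.congr (fr : Fr S.B S.Gd M N D) (h : S.Cm M v₀ w v) (e : w - w' ∈ M ⊔ D) :
    S.Cm M v₀ w' v := fun m hm c k => by
  have := fr.orth e hm
  rw [map_sub, sub_eq_zero] at this
  rw [h m hm c k, this]

theorem Pt.disj (pt : S.Pt M D v₀ P) (hv : v ≠ 0) (h : S.Cm M v₀ w v) (h' : S.Cm M v₀ w' v) :
    w - w' ∈ M ⊔ D :=
  by_contra fun k => hv ((pt.self w w v h (by simp)).symm.trans (pt.zero w w' v h' k))

theorem Pt.lam (pt : S.Pt M D v₀ P) {m : W} (hm : m ∈ M) : ∃ c : K, c ≠ 0 ∧ S.t m v₀ = c • v₀ :=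
  ((pt.st m).2 hm).ne pt.ne

/-- `t m` acts on `V_w` as a non-zero scalar. -/
theorem Pt.st_cm (pt : S.Pt M D v₀ P) (h : S.Cm M v₀ w v) {m : W} (hm : m ∈ M) :
    ∃ c : K, c ≠ 0 ∧ S.t m v = c • v := by
  obtain ⟨c, hc, k⟩ := pt.lam hm
  exact ⟨_, mul_ne_zero (S.χ_ne _) hc, h m hm c k⟩

end Cm

section Ind

variable {h h' : V ≃+ V} {φ φ' : W ≃ₗ[ZMod r] W} {u v : V}

theorem Ind.one : S.Ind (AddEquiv.refl V) 1 :=
  ⟨⟨RingEquiv.refl K, fun _ _ => rfl⟩, fun _ => ⟨1, one_ne_zero, fun _ => (one_smul _ _).symm⟩⟩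

theorem Ind.mul (i : S.Ind h φ) (i' : S.Ind h' φ') : S.Ind (h'.trans h) (φ * φ') := by
  obtain ⟨⟨σ, s⟩, k⟩ := i
  obtain ⟨⟨σ', s'⟩, k'⟩ := i'
  refine ⟨⟨σ'.trans σ, fun a v => by simp [s, s']⟩, fun a => ?_⟩
  obtain ⟨c', hc', e'⟩ := k' a
  obtain ⟨c, hc, e⟩ := k (φ' a)
  exact ⟨σ c' * c, mul_ne_zero ((map_ne_zero σ).2 hc') hc, fun v => by
    simp [e', s, e, mul_smul]⟩

theorem Ind.inv (i : S.Ind h φ) : S.Ind h.symm φ⁻¹ := by
  obtain ⟨⟨σ, s⟩, k⟩ := i
  refine ⟨⟨σ.symm, fun a v => h.injective (by simp [s])⟩, fun a => ?_⟩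
  obtain ⟨c, hc, e⟩ := k (φ⁻¹ a)
  refine ⟨σ.symm c⁻¹, (map_ne_zero _).2 (inv_ne_zero hc), fun v => h.injective ?_⟩
  rw [s, e]
  simp [inv_smul_smul₀ hc]

theorem Ind.st_map (i : S.Ind h φ) {a : W} (k : S.St v a) : S.St (h v) (φ a) := by
  obtain ⟨⟨σ, s⟩, i⟩ := i
  obtain ⟨c, hc, e⟩ := i a
  obtain ⟨b, k⟩ := k
  exact ⟨c⁻¹ * σ b, by rw [mul_smul, ← s, ← k, e, inv_smul_smul₀ hc]⟩

theorem St.of_smul {c : K} (hc : c ≠ 0) {a : W} (k : S.St (c • v) a) : S.St v a :=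
  k.imp fun b e => smul_right_injective V hc (by
    simpa only [map_smul, smul_comm b c] using e)

theorem Ind.st (i : S.Ind h φ) {b : K} (hb : h v = b • v) {a : W} (k : S.St v a) :
    S.St v (φ a) := by
  rcases eq_or_ne v 0 with rfl | hv
  · exact ⟨0, by simp⟩
  · refine St.of_smul (c := b) (fun z => hv (h.injective ?_)) (hb ▸ i.st_map k)
    rw [hb, z, zero_smul, map_zero]

theorem Ind.gd (i : S.Ind h φ) (a : W) : S.Gd (φ a) ↔ S.Gd a := by
  refine ⟨fun ⟨v, hv, k⟩ => ⟨h.symm v, by simpa using hv, ?_⟩,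
    fun ⟨v, hv, k⟩ => ⟨h v, by simpa using hv, i.st_map k⟩⟩
  simpa using i.inv.st_map k

theorem Ind.χB [Nontrivial V] (i : S.Ind h φ) : ∃ σ : K ≃+* K, (∀ (a : K) (v : V), h (a • v) = σ a • h v) ∧
    ∀ a b, S.χ (S.B (φ a) (φ b)) = σ (S.χ (S.B a b)) := by
  obtain ⟨⟨σ, s⟩, i⟩ := i
  refine ⟨σ, s, fun a b => ?_⟩
  obtain ⟨c, hc, e⟩ := i a
  obtain ⟨c', hc', e'⟩ := i b
  obtain ⟨v, hv⟩ := exists_ne (0 : V)
  have := congrArg h (S.comm_apply a b v)
  rw [s, e, e', e', e, map_smul, map_smul, S.comm_apply (φ a), smul_smul, smul_smul, smul_smul,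
    smul_smul] at this
  have := smul_left_injective K (S.t_ne _ (S.t_ne _ (by simpa using hv : h v ≠ 0))) this
  apply mul_left_cancel₀ (mul_ne_zero hc hc')
  linear_combination this

theorem Ind.pB [Nontrivial V] (h2 : r = 2) (i : S.Ind h φ) (a b : W) :
    S.B (φ a) (φ b) = S.B a b := by
  obtain ⟨σ, -, k⟩ := i.χB
  apply S.χ_inj
  rw [k]
  subst h2
  rcases z2_cases (S.B a b) with e | e <;> rw [e]
  · rw [S.χ_zero, map_one]
  · rw [S.χ_one_two rfl, map_neg, map_one]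

theorem fix_symm {σ : K ≃+* K} (s : ∀ (a : K) (v : V), h (a • v) = σ a • h v)
    (k : ∃ a : K, h u = a • u) : ∃ a : K, h.symm u = a • u := by
  obtain ⟨a, k⟩ := k
  rcases eq_or_ne u 0 with rfl | hu
  · exact ⟨0, by simp⟩
  · have : a ≠ 0 := fun z => hu (h.injective (by rw [k, z, zero_smul, map_zero]))
    exact ⟨σ.symm a⁻¹, h.injective (by simp [s, k, inv_smul_smul₀ this])⟩

variable (S u v) in
/-- The maps induced by semilinear maps that fix the points of `u` and `v`. -/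
def fxG : Subgroup (W ≃ₗ[ZMod r] W) where
  carrier := {φ | S.Fx u v φ}
  one_mem' := ⟨_, Ind.one, ⟨1, by simp⟩, 1, by simp⟩
  mul_mem' := by
    rintro φ φ' ⟨h, i, ⟨a, ha⟩, b, hb⟩ ⟨h', i', ⟨a', ha'⟩, b', hb'⟩
    obtain ⟨σ, s⟩ := i.1
    exact ⟨_, i.mul i', ⟨σ a' * a, by simp [ha', s, ha, mul_smul]⟩, σ b' * b,
      by simp [hb', s, hb, mul_smul]⟩
  inv_mem' := by
    rintro φ ⟨h, i, ha, hb⟩
    obtain ⟨σ, s⟩ := i.1
    exact ⟨_, i.inv, fix_symm s ha, fix_symm s hb⟩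

theorem Fx.st_left (f : S.Fx u v φ) {a : W} (k : S.St u a) : S.St u (φ a) := by
  obtain ⟨h, i, ⟨_, ha⟩, -⟩ := f
  exact i.st ha k

theorem Fx.st_right (f : S.Fx u v φ) {a : W} (k : S.St v a) : S.St v (φ a) := by
  obtain ⟨h, i, -, _, hb⟩ := f
  exact i.st hb k

end Ind

end Ex

end H12.CL
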