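/- CL3 tower (S3621), chapter 3: two jobs that replace `JobHB`, `JobCOL`.  Proofs: blueprints/CL3b.md. -/
import Cfsg.Agent.H12.CLSpec

set_option autoImplicit false

namespace H12.CL

/-- Frames exist, through any good isotropic subspace. -/
def JobHB2 : Prop :=
  ∀ (r : ℕ) [Fact r.Prime] (W : Type) [AddCommGroup W] [Module (ZMod r) W] [Finite W]
    (B : LinearMap.BilinForm (ZMod r) W) (Gd : W → Prop), Sp B → Ty B Gd →
    ∀ M₀ : Submodule (ZMod r) W, (∀ m ∈ M₀, Gd m) → (∀ m ∈ M₀, ∀ m' ∈ M₀, B m m' = 0) →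
      ∃ M N D, Fr B Gd M N D ∧ M₀ ≤ M

/-- The stabiliser of a coloured vector. -/
def JobCOL2 : Prop := AllP fun r _ V W _ _ _ _ _ S M _ D v₀ => r = 2 → ∀ A : Set W,
  (∀ w ∈ A, ∀ w' ∈ A, w - w' ∈ M ⊔ D → w = w') → ∃ u : V, ∀ φ, S.Fx u v₀ φ →
    (∀ w ∈ A, ∃ w' ∈ A, φ w - w' ∈ M) ∧ ((∀ w, φ w - w ∈ M) → ∀ a b c, a ∈ A → a + b ∈ A →
      a + c ∈ A → a + b + c ∈ A → S.B (φ b - b) c = 0)

end H12.CL
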