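/- CKS (S2193): groups of type `F₄`. -/
import Cfsg.Agent.H12.CX4
import Cfsg.Agent.H63.PoinF4
import Cfsg.Agent.H38.CKR0
import Cfsg.Agent.H32.CKX4

set_option autoImplicit false
set_option linter.unusedSectionVars false

namespace H12.CX

open Cfsg.Lie H63 H64 Subgroup MulAction H32.CK

theorem arith_F4 {q n : ℕ} (hq : 2 ≤ q) (hn : 2 ≤ n) (h1 : q ^ 6 ∣ n)
    (h2 : n - 1 ∣ (q - 1) * horner q [1, 1, 1, 1, 2, 2, 2, 2, 2, 2, 2, 2, 1, 1, 1, 1]) :
    ∃ k ≤ 12, n = q ^ k := by
  obtain ⟨a, rfl⟩ := h1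
  obtain ⟨r, hr⟩ := h2
  have ha : 1 ≤ a := Nat.pos_of_ne_zero (by rintro rfl; simp at hn)
  have e : ((q : ℤ) ^ 12 - 1) * (q ^ 4 + 1) = (q ^ 6 * a - 1) * r := by
    zify [show 1 ≤ q by omega, show 1 ≤ q ^ 6 * a by omega] at hr
    rw [← hr]; simp only [horner]; push_cast; ring
  have q2 : (2 : ℤ) ≤ q := by exact_mod_cast hq
  have a1 : (1 : ℤ) ≤ a := by exact_mod_cast ha
  have r0 : (0 : ℤ) ≤ r := Int.natCast_nonneg r
  suffices s : (a : ℤ) = 1 ∨ (a : ℤ) = q ^ 2 ∨ (a : ℤ) = q ^ 6 by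
    rcases s with s | s | s
    · exact ⟨6, by omega, by rw [show a = 1 by exact_mod_cast s, mul_one]⟩
    · exact ⟨8, by omega, by rw [show a = q ^ 2 by exact_mod_cast s]; ring⟩
    · exact ⟨12, by omega, by rw [show a = q ^ 6 by exact_mod_cast s]; ring⟩
  generalize (q : ℤ) = Q at *
  generalize (a : ℤ) = A at *
  generalize (r : ℤ) = R at *
  obtain ⟨y, hy⟩ : ∃ y, y = Q ^ 2 := ⟨_, rfl⟩
  have y4 : 4 ≤ y := by nlinarith
  have e' : (y ^ 6 - 1) * (y ^ 2 + 1) = (y ^ 3 * A - 1) * R := by rw [hy]; linear_combination e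
  rw [← hy, show Q ^ 6 = y ^ 3 by rw [hy]; ring]
  clear e hy q2 hr hn hq ha
  have y0 : 0 < y := by omega
  -- `R = y ^ 2 + 1 + t y ^ 3`
  obtain ⟨t, ht⟩ : ∃ t, R = y ^ 2 + 1 + t * y ^ 3 :=
    ⟨A * R - y ^ 5 - y ^ 3, by linear_combination e'⟩
  have y2 : y ^ 2 + 1 < y ^ 3 := by nlinarith [mul_pos y0 y0]
  have t0 : 0 ≤ t := by
    by_contra c
    nlinarith [mul_pos y0 y0]
  have e2 : t * (A * y ^ 3 - 1) = (y ^ 3 - A) * (y ^ 2 + 1) :=
    mul_left_cancel₀ (pow_pos y0 3).ne' (by rw [ht] at e'; linear_combination -e')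
  rcases t0.eq_or_lt with t1 | t1
  · rw [← t1, zero_mul, eq_comm, mul_eq_zero] at e2
    exact Or.inr (Or.inr (by rcases e2 with e2 | e2 <;> nlinarith [mul_pos y0 y0]))
  obtain ⟨k, hk⟩ : ∃ k, t = A + k * y ^ 2 :=
    ⟨t * A * y - y ^ 3 - y + A, by linear_combination -e2⟩
  have p2 : 0 < y ^ 2 := by positivity
  have p3 : 0 < y ^ 3 := by positivity
  rcases lt_trichotomy k 0 with k0 | k0 | k0
  · exfalso
    have : y ^ 2 + 1 ≤ A := by nlinarith
    have h1 : (y ^ 2 + 1) * y ^ 3 ≤ A * y ^ 3 := mul_le_mul_of_nonneg_right this p3.le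
    have h2 : 0 ≤ A * y ^ 3 - 1 := by nlinarith [mul_pos p2 p3]
    have h3 : A * y ^ 3 - 1 ≤ t * (A * y ^ 3 - 1) := le_mul_of_one_le_left h2 t1
    nlinarith
  · rw [k0, zero_mul, add_zero] at hk
    rw [hk] at e2
    have e3 : (A - y) * (A * y + y ^ 2 + 1) = 0 :=
      mul_left_cancel₀ p2.ne' (by linear_combination e2)
    exact Or.inr (Or.inl (by rcases mul_eq_zero.1 e3 with e3 | e3 <;> nlinarith))
  · refine Or.inl (by_contra fun c => ?_)
    have : 2 ≤ A := by omega
    have h1 : y ^ 2 + 2 ≤ t := by nlinarith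
    have h2 : 2 * y ^ 3 - 1 ≤ A * y ^ 3 - 1 := by nlinarith
    have : (y ^ 2 + 2) * (2 * y ^ 3 - 1) ≤ t * (A * y ^ 3 - 1) :=
      mul_le_mul h1 h2 (by omega) (by omega)
    nlinarith

/-- The radical of the parabolic subgroup of type `C₃`. -/
def Q0 : List ℕ := [24, 26, 29, 31, 32, 36, 38, 39, 40, 42, 43, 44, 45, 46, 47]

/-- A fundamental root of `F₄`. -/
abbrev f4 (i : ℕ) (h : i < 4 := by decide) : Fin chevF4.rank := ⟨i, h⟩

variable {F : Type} [Field F] [Fintype F] {G Ω : Type} [Group G] [Finite G] [MulAction G Ω]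
  [Finite Ω] {x : ℕ → F → G} (h : StB chevF4 x) (hG : GG chevF4 x = ⊤) (A : Act G Ω)
include h hG A

theorem f4_deg {m : ℤ} {L : List ℤ} (c : Ch F m L)
    (hz : ∀ a : Ω, stabilizer G a ⊓ GS chevF4 x [47] ≤ GS chevF4 x [])
    (h6 : ∀ a : Ω, Fintype.card F ^ 6 ≤ ol (GS chevF4 x Q0) a) :
    Nat.card Ω ≤ Fintype.card F ^ 12 ∧ ∀ a b : Ω, ∃ u ∈ GS chevF4 x chevF4.posRoots, u • a = b := by
  have c0 : Ch F 0 [] := ⟨Int.cast_zero, by simp⟩
  obtain ⟨k, hk, e⟩ := arith_F4 Fintype.one_lt_card A.two_le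
    (pow_dvd_card (Nm.card' c0 h (T := Q0) (by decide +kernel) (by decide)) h6)
    (lenF4_3 ▸ chi h hG c0 A stepF4_3 (by decide) (by decide +kernel) (by decide +kernel) hz)
  exact ⟨e ▸ Nat.pow_le_pow_right Fintype.card_pos hk, U_trans h hG A e⟩

theorem f4_odd (h2 : (2 : F) ≠ 0)
    (hz : ∀ a : Ω, stabilizer G a ⊓ GS chevF4 x [47] ≤ GS chevF4 x []) : False := by
  have c : Ch F 0 [1, -1, 2, -2] := ⟨Int.cast_zero, by simpa using h2⟩
  have q1 : 1 < Fintype.card F := Fintype.one_lt_card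
  have h0 : ∀ a : Ω, Fintype.card F ^ 8 ≤ ol (GS chevF4 x Q0) a := fun a => by
    have := heis c h (S := Q0) (V := [47]) (θ := 47) (d := 7) (by decide +kernel) (hz a)
    rwa [ol_free c h (by decide +kernel) (by decide) (hz a), ← pow_add] at this
  obtain ⟨hn, hU⟩ := f4_deg h hG A c hz fun a =>
    (Nat.pow_le_pow_right q1.le (by omega)).trans (h0 a)
  obtain ⟨a, -⟩ := A.nontrivial
  rcases tor c h hU (θ := 41) (R := Q0) (by decide +kernel) (by decide +kernel) (by decide +kernel)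
    (by decide +kernel) with z1 | z1
  swap
  · refine qk c h (S := Q0) (V := [47]) (R := []) (θ := 47) (β := 46)
      (l := [f4 2, f4 1, f4 0, f4 2, f4 1, f4 2]) (by decide +kernel)
      (grow_trans c h hU (J := [f4 0, f4 1, f4 2]) (by decide +kernel) (by decide +kernel)
        (l := [(41, 0, 30), (30, 0, 25), (25, 27, 28), (28, 0, 27), (28, 0, 35), (35, 0, 34),
          (34, 0, 33), (35, 0, 37)]) (by decide +kernel) z1) (hz a) (e := 15) rfl ?_
    rw [GS_nil, ol_bot, mul_one]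
    exact hn.trans_lt (Nat.pow_lt_pow_right q1 (by omega))
  have h1 : ∀ a : Ω, Fintype.card F ^ 11 ≤ ol (GS chevF4 x ([33, 34, 35, 37, 41] ++ Q0)) a :=
    fun a => by
      have := heis c h (S := [33, 34, 35, 37, 41] ++ Q0) (V := 41 :: Q0) (d := 2)
        (by decide +kernel) (z1 a)
      rw [ol_cons c h (by decide +kernel) (by decide +kernel) (by decide) (z1 a)] at this
      refine le_trans ?_ this
      rw [show 11 = 2 + (1 + 8) from rfl, pow_add, pow_add, pow_one]
      exact Nat.mul_le_mul_left _ (Nat.mul_le_mul_left _ (h0 a))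
  rcases tor c h hU (θ := 30) (R := [33, 34, 35, 37, 41] ++ Q0) (by decide +kernel)
    (by decide +kernel) (by decide +kernel) (by decide +kernel) with z2 | z2
  swap
  · refine qk c h (S := [33, 34, 35, 37, 41] ++ Q0) (V := 41 :: Q0) (R := Q0) (θ := 41) (β := 37)
      (l := [f4 1, f4 2, f4 1]) (by decide +kernel)
      (grow_trans c h hU (J := [f4 1, f4 2]) (by decide +kernel) (by decide +kernel)
        (l := [(30, 0, 25), (25, 27, 28), (28, 0, 27)]) (by decide +kernel) z2) (z1 a) (e := 5) rfl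
      (hn.trans_lt (lt_of_lt_of_le ?_ (Nat.mul_le_mul_left _ (h0 a))))
    rw [← pow_add]
    exact Nat.pow_lt_pow_right q1 (by omega)
  have := heis c h (S := [27, 28, 30] ++ ([33, 34, 35, 37, 41] ++ Q0))
    (V := 30 :: ([33, 34, 35, 37, 41] ++ Q0)) (d := 1) (by decide +kernel) (z2 a)
  rw [ol_cons c h (by decide +kernel) (by decide +kernel) (by decide) (z2 a)] at this
  have := ((Nat.mul_le_mul_left _ (Nat.mul_le_mul_left _ (h1 a))).trans this).trans
    ((ol_le _ a).trans hn)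
  rw [← pow_succ', ← pow_add, Nat.pow_le_pow_iff_right q1] at this
  omega

theorem f4_even (h2 : (2 : F) = 0)
    (hz : ∀ a : Ω, stabilizer G a ⊓ GS chevF4 x [47] ≤ GS chevF4 x [])
    (hs : ∀ a : Ω, stabilizer G a ⊓ GS chevF4 x [44] ≤ GS chevF4 x []) : False := by
  have c : Ch F 2 [1, -1] := ⟨by exact_mod_cast h2, by simp⟩
  have q1 : 1 < Fintype.card F := Fintype.one_lt_card
  have h0 := fun a : Ω => heis c h (S := Q0) (V := [29, 36, 38, 39, 40, 44, 47]) (θ := 47) (d := 4)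
    (by decide +kernel) (hz a)
  obtain ⟨hn, hU⟩ := f4_deg h hG A c hz fun a => le_trans (by
    rw [show 6 = 4 + [40, 44].length from rfl, pow_add, ← ol_free c h (by decide +kernel) (by decide)
      (step c h (i := f4 0) (by decide +kernel) hs a)]
    exact Nat.mul_le_mul_left _ (ol_mono (GS_mono (by decide)) a)) (h0 a)
  have hv : ∀ a : Ω, stabilizer G a ⊓ GS chevF4 x [29, 36, 38, 39, 40, 44, 47] ≤ GS chevF4 x [] :=
    step c h (i := f4 0) (by decide +kernel) (step c h (i := f4 1) (by decide +kernel)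
      (step c h (i := f4 2) (by decide +kernel) (step c h (i := f4 1) (by decide +kernel)
        (step c h (i := f4 0) (by decide +kernel)
          (free_of_central c h A hU (by decide +kernel))))))
  obtain ⟨a, -⟩ := A.nontrivial
  rcases tor c h hU (θ := 37) (R := Q0) (by decide +kernel) (by decide +kernel) (by decide +kernel)
    (by decide +kernel) with z1 | z1
  swap
  · refine qk c h (S := Q0) (V := [29, 36, 38, 39, 40, 44, 47]) (R := []) (θ := 47) (β := 46)
      (l := [f4 2, f4 1, f4 0, f4 2, f4 1, f4 2]) (by decide +kernel)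
      (grow_trans c h hU (J := [f4 0, f4 1, f4 2]) (by decide +kernel) (by decide +kernel)
        (l := [(37, 0, 35), (35, 0, 28), (35, 0, 34), (28, 0, 27), (34, 0, 33), (27, 25, 30),
          (30, 0, 25), (30, 0, 41)]) (by decide +kernel) z1) (hv a) (e := 15) rfl ?_
    rw [GS_nil, ol_bot, mul_one]
    exact hn.trans_lt (Nat.pow_lt_pow_right q1 (by omega))
  have h1 := h0 a
  rw [ol_free c h (by decide +kernel) (by decide) (hv a), ← pow_add] at h1
  have h3 := heis c h (S := [27, 28, 30, 34, 35, 37, 41] ++ Q0) (V := [30, 37, 41] ++ Q0) (d := 2)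
    (by decide +kernel) (z1 a)
  have h4 := ol_mono (GS_mono (D := chevF4) (x := x) (S := Q0) (T := [30, 37, 41] ++ Q0)
    (by decide)) a
  have := ((Nat.mul_le_mul_left _ (h1.trans h4)).trans h3).trans ((ol_le _ a).trans hn)
  rw [← pow_add, Nat.pow_le_pow_iff_right q1] at this
  simp at this

omit h hG A in
theorem jobF4 : JobF4 := fun p _ F _ _ _ _ => H38.CK.chB_of fun Ω _ _ _ A => by
  have := H65.tabF4
  have := H65.commF4
  have h := stB_xG (D := chevF4) (F := F) H64.matOK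
  have c : Ch F 0 [1, -1] := ⟨Int.cast_zero, by simp⟩
  have hz := free_single c h (by decide +kernel) (lines h GG_xG c A (θ := 47) (β := 46) (i := f4 3)
    (by decide +kernel) (by decide +kernel) (by decide +kernel))
  by_cases h2 : (2 : F) = 0
  · have c' : Ch F 2 [1, -1] := ⟨by exact_mod_cast h2, by simp⟩
    exact (f4_even h GG_xG A.toAct h2 hz (free_single c' h (by decide +kernel)
      (lines h GG_xG c' A (θ := 44) (β := 40) (i := f4 0) (by decide +kernel) (by decide +kernel)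
        (by decide +kernel)))).elim
  · exact (f4_odd h GG_xG A.toAct h2 hz).elim

omit h hG A in
/-- Chapter X for `F₄(2)`, given that root elements fix no point. -/
theorem jobXF4_of (H : ∀ (F : Type) [Field F] [Fintype F], Fintype.card F = 2 →
    ∀ (Ω : Type) [MulAction (chevF4.group F) Ω] [Finite Ω], Act (chevF4.group F) Ω →
      2 ∣ Nat.card Ω → ∀ r < 48, ∀ a : Ω, @xG chevF4 _ H65.tabF4 F _ r 1 • a ≠ a) : JobXF4 :=
  fun F _ _ hF => H38.CK.chX_of fun Ω _ _ _ A hd => by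
    have := H65.tabF4
    have := H65.commF4
    have h := stB_xG (D := chevF4) (F := F) H64.matOK
    have h2 : (2 : F) = 0 := by exact_mod_cast hF ▸ FiniteField.cast_card_eq_zero F
    have c : Ch F 2 [1, -1] := ⟨by exact_mod_cast h2, by simp⟩
    have k : ∀ r < 48, ∀ (a : Ω) (t : F), t ≠ 0 → xG chevF4 F r t • a ≠ a := fun r hr a t ht => by
      have := FiniteField.pow_card_sub_one_eq_one t ht
      rw [hF, pow_one] at this
      exact this ▸ H F hF Ω A hd r hr a
    exact (f4_even h GG_xG A h2 (free_single c h (by decide +kernel) (k 47 (by omega)))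
      (free_single c h (by decide +kernel) (k 44 (by omega)))).elim

omit h hG A in
theorem jobXF4 : JobXF4 := jobXF4_of fun F _ _ hF Ω _ _ A hd => (H32.CKX.xf4A F hF Ω A hd).2

end H12.CX
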