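import Cfsg.Agent.H20.DGSpec

/-! Tower DG, job NA3. -/

set_option autoImplicit false

namespace H12.DGN

open Subgroup MulAction Cfsg H98 H20.DG

universe u v

theorem gen {G X : Type*} [Group G] [Finite G] [MulAction G X] {s : ℕ} (hs : s.Prime) (h2 : s ≠ 2)
    (N : Subgroup G) (x : X) (hd : s ∣ (Ob N x).ncard) (hl : (Ob N x).ncard ≤ 2 * s) :
    ∃ y ∈ N, (∃ k : ℕ, y ^ s ^ k = 1) ∧ (∀ U ∈ Ob N x, y • U ≠ U) ∧ ∀ U ∈ Ob N x, (y ^ s) • U = U := by
  have := Fact.mk hs
  have h3 : 3 ≤ s := by have := hs.two_le; omega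
  obtain ⟨S, hS, -⟩ := exists_isSyl_le (p := s) (IsPGroup.of_bot (G := G)) (bot_le : ⊥ ≤ N)
  have fin : (Ob N x).Finite := by
    refine Set.finite_of_ncard_ne_zero ?_
    rw [ncard_Ob]
    exact index_ne_zero_of_finite
  have sub : ∀ U ∈ Ob N x, Ob S U ⊆ Ob N x := fun U hU b ⟨g, hg, e⟩ =>
    (isOr_Ob N x U hU b).2 ⟨g, hS.le hg, e⟩
  have idx : ∀ U ∈ Ob N x, (stabilizer G U).relIndex S = s := fun U hU => by
    obtain ⟨j, hj⟩ := hS.isPGroup.index ((stabilizer G U).subgroupOf S)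
    have e1 : (stabilizer G U).relIndex S = s ^ j := hj
    have e2 : s ^ j ≤ 2 * s := by
      rw [← e1, ← ncard_Ob]
      exact (Set.ncard_le_ncard (sub U hU) fin).trans hl
    have e3 : j ≠ 0 := fun e => by
      rw [e, pow_zero, relIndex_eq_one] at e1
      have e4 := relIndex_dvd_of_le_left N e1
      rw [← ncard_Ob, ← (isOr_Ob N x).eq_Ob hU] at e4
      exact hS.not_dvd_relIndex (hd.trans e4)
    have e5 : j < 2 := by
      by_contra h
      have := Nat.pow_le_pow_right hs.pos (not_lt.1 h)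
      nlinarith
    rw [e1, show j = 1 by omega, pow_one]
  have nor : ∀ U ∈ Ob N x, ((stabilizer G U).subgroupOf S).Normal := fun U hU => by
    refine normal_of_index_eq_minFac_card ?_
    obtain ⟨n, hn⟩ := IsPGroup.iff_card.1 hS.isPGroup
    have e : ((stabilizer G U).subgroupOf S).index = s := idx U hU
    have n0 : n ≠ 0 := fun e0 => by
      have := index_dvd_card ((stabilizer G U).subgroupOf S)
      rw [e, hn, e0, pow_zero, Nat.dvd_one] at this
      omega
    rw [e, hn, hs.pow_minFac n0]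
  have same : ∀ U ∈ Ob N x, ∀ V ∈ Ob S U, ∀ y ∈ S, y • V = V → y • U = U := by
    rintro U hU _ ⟨g, hg, rfl⟩ y hy e
    have e1 : (⟨g⁻¹ * y * g, mul_mem (mul_mem (inv_mem hg) hy) hg⟩ : S) ∈
        (stabilizer G U).subgroupOf S := by
      change (g⁻¹ * y * g) • U = U
      rw [mul_smul, mul_smul, e, inv_smul_smul]
    have e2 := (nor U hU).conj_mem _ e1 ⟨g, hg⟩
    have e3 : (g * (g⁻¹ * y * g) * g⁻¹) • U = U := e2
    rwa [show g * (g⁻¹ * y * g) * g⁻¹ = y by group] at e3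
  have mv : ∀ U ∈ Ob N x, ∃ a ∈ S, a • U ≠ U := fun U hU => by
    by_contra h
    push Not at h
    have e : (stabilizer G U).relIndex S = 1 := relIndex_eq_one.2 fun a ha => h a ha
    rw [idx U hU] at e
    omega
  have hx : x ∈ Ob N x := ⟨1, one_mem _, one_smul _ _⟩
  obtain ⟨x', hx', cov⟩ : ∃ x' ∈ Ob N x, Ob N x ⊆ Ob S x ∪ Ob S x' := by
    by_cases h : Ob N x ⊆ Ob S x
    · exact ⟨x, hx, fun b hb => .inl (h hb)⟩
    · obtain ⟨x', h1, h2⟩ := Set.not_subset.1 h
      refine ⟨x', h1, (Set.eq_of_subset_of_ncard_le (Set.union_subset (sub x hx) (sub x' h1)) ?_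
        fin).ge⟩
      rw [Set.ncard_union_eq ?_ (fin.subset (sub x hx)) (fin.subset (sub x' h1)), ncard_Ob S, ncard_Ob S,
        idx x hx, idx x' h1]
      · omega
      · refine Set.disjoint_left.2 fun b hb ⟨g, hg, e⟩ => h2 ?_
        exact (isOr_Ob S x b hb x').2 ⟨g⁻¹, inv_mem hg, by rw [← e, inv_smul_smul]⟩
  obtain ⟨y, hy, y1, y2⟩ : ∃ y ∈ S, y • x ≠ x ∧ y • x' ≠ x' := by
    obtain ⟨a, ha, a1⟩ := mv x hx
    obtain ⟨b, hb, b1⟩ := mv x' hx'
    by_cases e1 : a • x' = x'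
    · by_cases e2 : b • x = x
      · refine ⟨a * b, mul_mem ha hb, by rwa [mul_smul, e2], fun e => b1 ?_⟩
        rw [mul_smul] at e
        exact (smul_left_cancel_iff a).1 (e.trans e1.symm)
      · exact ⟨b, hb, e2, b1⟩
    · exact ⟨a, ha, a1, e1⟩
  refine ⟨y, hS.le hy, isPGroup_iff_forall.1 hS.isPGroup y hy, fun U hU e => ?_, fun U hU => ?_⟩
  · rcases cov hU with h | h
    · exact y1 (same x hx U h y hy e)
    · exact y2 (same x' hx' U h y hy e)
  · have := nor U hU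
    have e := pow_index_mem (H := (stabilizer G U).subgroupOf S) ⟨y, hy⟩
    rw [show ((stabilizer G U).subgroupOf S).index = s from idx U hU] at e
    exact e

theorem jobNA3 : JobNA3.{u, v} := by
  intro G Ω _ _ _ _ s A hs h2 ⟨a⟩ sn hd hl
  let : MulAction G (Subgroup G) :=
    { smul := fun g H => cj g H
      one_smul := fun H => cj_one H
      mul_smul := fun g h H => (cj_cj g h H).symm }
  have e : Ys Ω A = Ob (normalizer (A : Set G)) (A ⊓ stabilizer G a) := by
    ext U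
    constructor
    · rintro ⟨b, rfl⟩
      exact sn a b
    · rintro ⟨g, hg, rfl⟩
      refine ⟨g • a, ?_⟩
      change _ = cj g _
      rw [cj_inf, cj_stab, cj_eq_self hg]
  rw [e] at hd hl ⊢
  exact gen hs h2 _ _ hd hl

end H12.DGN
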