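/- Tower O84: twisted Frobenius maps of `E₈` over the algebraic closure of the field with two
elements, and the isomorphism of their fixed point groups with `E₈(2)`. -/
import Cfsg.Agent.H40.E8GHub
import Cfsg.Agent.H81.E8GU

set_option autoImplicit false

namespace H12.O84

open Cfsg.Lie H63 H64 H65 H46 H14.E8 Matrix H40.E8G

attribute [local instance] H65.tabE8 H65.commE8

/-- The algebraic closure of the field with two elements. -/
abbrev K2 : Type := AlgebraicClosure (ZMod 2)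

/-- The group `E₈(2)`. -/
abbrev G2 : Type := ↥(chevE8.group (ZMod 2))

/-- Invertible matrices of degree 248 over `K2`. -/
abbrev GLh : Type := GL chevE8.Idx K2

/-- The group `E₈(K2)`. -/
noncomputable abbrev Gh : Subgroup GLh := chevE8.group K2

/-- The root elements. -/
noncomputable abbrev xx (r : ℕ) (t : K2) : GLh := xU chevE8 K2 r t

/-- The embedding of `E₈(2)`. -/
noncomputable def al : G2 →* GLh := Gh.subtype.comp (H67.toAlg chevE8 (ZMod 2))

/-- The squaring map. -/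
noncomputable abbrev Fr : K2 →+* K2 := frobenius K2 2

/-- The lift of a word in the fundamental reflections. -/
noncomputable abbrev nv (L : List ℕ) : GLh := nL chevE8 (xU chevE8 K2) L

/-- The permutation of the roots given by a word. -/
noncomputable abbrev wv (L : List ℕ) : Equiv.Perm (Rt chevE8) := (wW chevE8 L).1

/-- The twisted Frobenius map `g ↦ n F(g) n⁻¹`. -/
noncomputable def sig (L : List ℕ) : GLh →* GLh :=
  (MulAut.conj (nv L)).toMonoidHom.comp (GeneralLinearGroup.map Fr)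

/-- The fixed points of the twisted Frobenius map in `E₈(K2)`. -/
noncomputable def Gv (L : List ℕ) : Subgroup GLh := Gh ⊓ Tfix (nv L) Fr

theorem sig_apply (L : List ℕ) (g : GLh) :
    sig L g = nv L * GeneralLinearGroup.map Fr g * (nv L)⁻¹ := rfl

theorem mem_Gv {L : List ℕ} {g : GLh} : g ∈ Gv L ↔ g ∈ Gh ∧ sig L g = g := Iff.rfl

theorem Fr_apply (t : K2) : Fr t = t ^ 2 := frobenius_def 2 t

theorem frob2_iff (t : K2) : Fr t = t ↔ t ∈ (algebraMap (ZMod 2) K2).range := by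
  obtain ⟨σ, h2, h3, -⟩ := H67.exists_frobAut (ZMod 2)
  rw [← h3, h2, ZMod.card, frobenius_def]

theorem al_inj : Function.Injective al := Subtype.val_injective.comp (mapG_injective _)

theorem al_mem (a : G2) : al a ∈ Gh := (H67.toAlg chevE8 (ZMod 2) a).2

theorem x_mem (r : Rt chevE8) (t : K2) : xx r t ∈ Gh := (xG chevE8 K2 r t).2

theorem nL_mem {D : ChevalleyDatum} [RS D] [Tab D] {k : Type} [Field k] (L : List ℕ) :
    nL D (xU D k) L ∈ D.group k := by
  induction L with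
  | nil => exact one_mem _
  | cons i L ih =>
    rw [nL_cons]
    refine mul_mem ?_ ih
    split_ifs with hi
    · rw [nn_eq]
      exact mul_mem (mul_mem (xG D k _ _).2 (xG D k _ _).2) (xG D k _ _).2
    · exact one_mem _

theorem nv_mem (L : List ℕ) : nv L ∈ Gh := nL_mem L

theorem Fr_nv (L : List ℕ) : GeneralLinearGroup.map Fr (nv L) = nv L :=
  map_nL _ (fun i => (fld_nn (fun r t => map_xU Fr r t) (simpleR i) 1).trans
    (by rw [map_one]; rfl)) L

theorem Fr_al (a : G2) : GeneralLinearGroup.map Fr (al a) = al a := by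
  ext i j
  exact (frob2_iff _).2 ⟨_, rfl⟩

theorem sig_mem (L : List ℕ) {g : GLh} (hg : g ∈ Gh) : sig L g ∈ Gh :=
  mul_mem (mul_mem (nv_mem L) (map_mem_group Fr hg)) (inv_mem (nv_mem L))

theorem sig_inj (L : List ℕ) : Function.Injective (sig L) := by
  intro a b h
  have h1 : GeneralLinearGroup.map Fr a = GeneralLinearGroup.map Fr b :=
    (MulAut.conj (nv L)).injective h
  ext i j
  exact Fr.injective (congrArg (fun g : GLh => g i j) h1)

/-- No signs in characteristic two. -/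
theorem nv_conj (L : List ℕ) (r : Rt chevE8) (t : K2) :
    nv L * xx r t * (nv L)⁻¹ = xx (wv L r) t := by
  obtain ⟨η, h1, h2⟩ := H81.E8GU.sgn_nL (stB_xU chevE8 K2).toStN L r
  have : η = 1 := by
    rcases mul_self_eq_one_iff.1 h1 with h | h
    · exact h
    · rw [h, CharTwo.neg_eq]
  rw [(h2 t).1, this, one_mul]

theorem sig_x (L : List ℕ) (r : Rt chevE8) (t : K2) :
    sig L (xx r t) = xx (wv L r) (t ^ 2) := by
  rw [sig_apply, map_xU, nv_conj, Fr_apply]

/-- **Lang transport**: the fixed point group is conjugate in `E₈(K2)` to `E₈(2)`. -/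
theorem lang (L : List ℕ) :
    ∃ x ∈ Gh, ∃ e : G2 ≃* Gv L, ∀ a, (e a : GLh) = x⁻¹ * al a * x := by
  obtain ⟨x, hx, e⟩ := lang_group (D := chevE8) Fr le_rfl Fr_apply (nv_mem L)
  let f : G2 →* GLh := (MulAut.conj x⁻¹).toMonoidHom.comp al
  have hf : ∀ a, f a = x⁻¹ * al a * x := fun a => by
    change x⁻¹ * al a * x⁻¹⁻¹ = _
    rw [inv_inv]
  have h1 : ∀ a, f a ∈ Gv L := fun a => by
    rw [hf]
    refine mem_Gv.2 ⟨mul_mem (mul_mem (inv_mem hx) (al_mem a)) hx, ?_⟩
    rw [sig_apply, map_mul, map_mul, map_inv, Fr_al, ← e]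
    group
  refine ⟨x, hx, MulEquiv.ofBijective (f.codRestrict _ h1) ⟨fun a b h => ?_, fun u => ?_⟩, hf⟩
  · exact al_inj ((MulAut.conj x⁻¹).injective (congrArg Subtype.val h))
  · obtain ⟨a, ha⟩ := exists_rat frob2_iff (kerE8.cker_eq_bot _) hx e u.2.1 u.2.2
    refine ⟨a, Subtype.ext ?_⟩
    change f a = u
    rw [hf, show al a = x * u * x⁻¹ from ha]
    group

theorem nonempty_equiv (L : List ℕ) : Nonempty (G2 ≃* Gv L) := by
  obtain ⟨_, _, e, _⟩ := lang L
  exact ⟨e⟩

/-! ### Computing with words -/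

/-- The fundamental reflections on root numbers, packed in base 256. -/
def rtab : List ℕ := [
  0xefeeedecebeae1e8e0dfdedddcdbe9e7e6e5e4e3e2dad9d8d7d6d5d4d3d2d1d0cfcecdcccbcac9c8c7c6c5c4c3c2c1c0bfbebdbcbbbab9b8a1a09f9e9d9c9b9a999897969594938c8b8a8988874db7b6b5b4b3b2b1b0afaeadacabaaa99291908f8e8da8a7a6a5a4a3868584838281807f7e7d7c7b7a797877767574737271706f6e6d6c6b6a694c4b4a4948476261605f5e5d464544434241403f3e3d3c3b3a3938a26867666564635c5b5a595857565554535251504f4e37363534333231302f2e2d2c2b2a292827262524232221201f1e1d1c1b1a19181716150d0c0b0a09080614131211100f070e050403020100,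
  0xefeeedecebe8e7eae9e6e5e4e3e2e0e1dfdedddcdbdad9d8d7d6cbcac9c8c7c6c5c4c3c2d5d4d3d2d1d0cfcecdccc1c0bfbebdbcbbbab9b8b7b6b5b4b3b2b1b0afaea8a7a6a5a4adacabaaa9a3a2a1a09f9e9d9c9b9a99988c8b8a89888685848382629796959493879291908f8e81807f7e7d7c7b7a797877767574737271706f6e61605f5e5d685c5b5a59588d6d6c6b6a69676665646357565554535251504f4e4d4c46454443424b4a49484741403f3e3d3c3b3a393837363534333231302f2e232221201f1e1d1c1b1a2d2c2b2a292827262524191817161514131211100e0f0d0c0b0a09060508070403020100,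
  0xefeeedecebe9eae7e8e6e5e4e3e2e1e0dad9d8d7d6dfdedddcdbd5d4d3d2d1d0cfcecdcccbcac9c8c7c6c5c4c3c2b7b6b5b4b3b2b1b0afaec1c0bfbebdbcbbbab9b8adacabaaa9a8a7a6a5a4a2a3a1a09f9e9d9c9b9a99989291908f8e97969594938d8685848382688c8b8a898881807f7e7d7c7b7a797877767574737271706f6e6766656463876d6c6b6a69625c5b5a595861605f5e5d57565554535251504f4e4c4d4b4a494847464544434237363534333231302f2e41403f3e3d3c3b3a39382d2c2b2a292827262524232221201f1e1d1c1b1a141312111019181716150f0e0d0c0b0a09070805060403020100,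
  0xefeeedeceaebe9e8e6e7e5e4e3e2e1dfe0dedddcdbdad5d4d3d2d9d8d7d6d1d0cfcecdcccbcac9c8c1c0bfbebdbcc7c6c5c4c3c2bbbab9b8b7b6b5b4b3b2adacabaab1b0afaea9a8a7a6a5a3a4a2a1a09f9e9d9c979695949b9a9998939291908f8d8e8c8b8a89878881807f7e6d868584837d7c7b7a79787776757473726c6b6a698271706f6e6768666564636162605f5e5d5c575655545b5a5958535251504f4e4d4b4c4a4948474641403f3e454443423d3c3b3a3938373635342d2c2b2a2928333231302f2e27262524232221201f1e191817161d1c1b1a15141312110f100e0d0c0b0a08090706040503020100,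
  0xefeeedebeceae9e8e7e5e6e4e3e2e1e0dedfdddcdbd9dad8d7d6d5d1d0cfd4d3d2cecdcccbc7c6c5cac9c8c4c3c2c1c0bfbbbab9bebdbcb8b7b6b5b1b0afb4b3b2aeadacaba9aaa8a7a6a4a5a3a2a1a09f9b9a999e9d9c9897969593949291908e8f8d8c8b8a88898786858482837d7c7b7181807f7a7978777675706f6e7e7473726c6d6b6a696866676564636260615f5e5d5b5c5a595857535251565554504f4e4d4c4a4b4948474546444342413d3c3b403f3e3a393837333231363534302f2e2d2c2b2726252a2928242322211d1c1b201f1e1a191817151614131210110f0e0d0c0b090a080706050304020100,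
  0xefeeecedebeae9e8e7e6e4e5e3e2e1e0dfdddedcdbdad8d9d7d6d4d5d3d2d1cecdd0cfcccacbc9c8c7c4c3c6c5c2c1bebdc0bfbcbbbab8b9b7b4b3b6b5b2b1b0aeafadacaaaba9a8a7a5a6a4a3a2a19e9da09f9c9b9a9899979694959392918f908e8d8c8b898a8887868583848281807e7f7a79747d7c787773727b767570716f6e6d6b6c6a6968676566646362615f605e5d5c5a5b59585657555453504f52514e4d4c4b494a4847464445434240413f3e3d3a393c3b383637353433302f32312e2d2a292c2b282726242523201f22211e1d1c1a1b191816171514131112100f0e0d0c0a0b09080706050402030100,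
  0xefedeeecebeae9e8e7e6e5e3e4e2e1e0dfdedcdddbdad9d7d8d6d5d3d4d2d0d1cfcecccdcbc9cac8c6c7c5c4c2c3c0c1bfbebcbdbbb9bab8b6b7b5b4b2b3b1afb0aeadabacaaa9a8a6a7a5a4a3a2a0a19f9e9c9d9b999a9897959694939290918f8e8d8c8a8b8988878684858382817f807e7d7b7c78767a757977737472716f706e6d6c6a6b696867666465636261605e5f5d5c5b595a5857555654525351504e4f4d4c4b4a4849474645434442413f403e3c3d3b3a383937353634323331302e2f2c2d2b2a282927252624222321201e1f1d1b1c1a191718161514121311100f0e0d0b0c0a09080706050403010200,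
  0xeeefedecebeae9e8e7e6e5e4e2e3e1e0dfdedddbdcdad9d8d6d7d5d4d2d3d1cfd0cdcecccbcac8c9c7c5c6c3c4c2c1bfc0bdbebcbabbb9b8b7b5b6b3b4b2b0b1afaeacadabaaa9a7a8a6a5a4a3a2a19fa09d9e9c9a9b999896979594939192908f8e8d8b8c8a898887858684838280817f7e7c7d7b797a7778757674727371706e6f6d6c6b696a6867666563646261605f5d5e5c5b5a5859575654555351524f504e4d4c4b4a494748464544424341403e3f3d3b3c393a38373634353331322f302e2d2b2c292a28262725242321221f201e1c1d1b1a181917161513141211100f0e0c0d0b0a09080706050403020001]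

/-- Digit `s` of a packed table. -/
def dig (p s : ℕ) : ℕ := Nat.land (Nat.shiftRight p (Nat.mul 8 s)) 255

/-- The image of a root number under a word. -/
def wr (L : List ℕ) (r : ℕ) : ℕ :=
  L.foldr (fun i s => if i < 8 then dig (rtab.getD i 0) s else s) r

theorem refl_tab : ∀ i < 8, ∀ s < 240, chevE8.reflectRoot i s = dig (rtab.getD i 0) s := by
  decide +kernel

theorem wv_val (L : List ℕ) (r : Rt chevE8) : (wv L r : ℕ) = wr L r := by
  induction L with
  | nil => rfl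
  | cons i L ih =>
    rw [wv, wW_cons, sN, wr, List.foldr_cons, ← wr, ← ih]
    split_ifs with h1 h2 h2
    · exact refl_tab i h1 _ (wv L r).2
    · exact absurd h1 h2
    · exact absurd h2 h1
    · rw [one_mul]

end H12.O84
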