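import Cfsg.Agent.H28.TESpec

/-! Tower NF, chapter TE part 1, job L0. -/

set_option autoImplicit false

open Cfsg Subgroup H14 H98 H1.Gold H31.S2 H14.GC H14.FE H14.NF H28.TE

namespace H12.TEL

universe u

theorem jobL0 : H28.TE.JobL0.{u} := by
  intro G _ _ Q hy eg Q₁ Q₂ v1 v2 ne T sT nb R sR nr
  have := Fact.mk Nat.prime_two
  obtain ⟨-, ⟨φ⟩⟩ := eg Q₁ Q₂ v1 v2 ne T sT nb R sR nr
  have cE : Nat.card ↥(R ⊓ cen T) = Nat.card T := Nat.card_congr φ.toEquiv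
  obtain ⟨g₁, e1⟩ := id v1
  obtain ⟨g₂, e2⟩ := id v2
  have s2 : IsSyl 2 (cj (g₂ * g₁⁻¹) R) Q₂ := by
    have := sR.cj (g₂ * g₁⁻¹)
    rwa [e1, cj_cj, inv_mul_cancel_right, ← e2] at this
  have c2 : ∀ S, IsSyl 2 S Q₂ → Nat.card S = Nat.card R := fun S h => by
    rw [h.card_eq, ← s2.card_eq, card_cj]
  refine ⟨fun h => ?_, fun nf => ?_⟩
  · exact inf_eq_left.1 (eq_of_le_of_card_ge inf_le_left (by rw [cE, c2 T h]))
  obtain ⟨elT, fT⟩ := hy.all Q₁ Q₂ v1 v2 ne T sT nb nf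
  have elE : El (R ⊓ cen T) := fun a ha => congrArg Subtype.val (φ.injective (a₁ := ⟨a, ha⟩ * ⟨a, ha⟩)
    (a₂ := 1) (by rw [map_mul, map_one]; exact Subtype.ext (elT _ (φ ⟨a, ha⟩).2)))
  obtain ⟨s, hs, t, ht, i1, i2, st, c⟩ := id fT
  have fE : H14.GC.Four (R ⊓ cen T) := by
    have k : ∀ x (hx : x ∈ T), H14.GC.Inv x → H14.GC.Inv (φ.symm ⟨x, hx⟩ : G) := fun x hx i =>
      ⟨fun e => i.1 (congrArg Subtype.val (φ.symm.map_eq_one_iff.1 (Subtype.ext e))),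
        elE _ (φ.symm ⟨x, hx⟩).2⟩
    refine ⟨_, (φ.symm ⟨s, hs⟩).2, _, (φ.symm ⟨t, ht⟩).2, k s hs i1, k t ht i2,
      fun e => st (congrArg Subtype.val (φ.symm.injective (Subtype.ext e))), ?_⟩
    rw [← coe_mul, ← coe_mul, ← map_mul, ← map_mul]
    exact congrArg (fun z => ((φ.symm z : ↥(R ⊓ cen T)) : G)) (Subtype.ext c)
  have le : R ⊓ cen T ≤ Q₁ ⊓ nor Q₂ := fun x hx => ⟨sR.le hx.1, hy.cen_le Q₂ v2 s (sT.le hs).1 i1
    (mem_centralizer_singleton_iff.2 (mem_centralizer_iff.1 hx.2 s hs).symm)⟩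
  have sE : IsSyl 2 (R ⊓ cen T) (Q₁ ⊓ nor Q₂) := by
    obtain ⟨U, sU, hU⟩ := exists_isSyl_le (sR.isPGroup.to_le inf_le_left) le
    obtain ⟨R', sR', -, nr'⟩ := inv_syl sU.isPGroup (sU.le.trans inf_le_right)
    obtain ⟨a, ha, -, -, i, -⟩ := fE
    obtain ⟨-, ⟨ψ⟩⟩ := eg Q₂ Q₁ v2 v1 ne.symm U sU
      (fun e => i.1 (mem_bot.1 (e ▸ hU ha))) R' sR' nr'
    have l' : R' ⊓ cen U ≤ Q₂ ⊓ nor Q₁ := fun x hx => ⟨sR'.le hx.1, hy.cen_le Q₁ v1 a (le ha).1 i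
      (mem_centralizer_singleton_iff.2 (mem_centralizer_iff.1 hx.2 a (hU ha)).symm)⟩
    have := sT.card_le (sR'.isPGroup.to_le inf_le_left) l'
    rw [Nat.card_congr ψ.toEquiv, ← cE] at this
    rwa [eq_of_le_of_card_ge hU this]
  refine ⟨hy, v1, v2, ne, sE, sT, elE, elT, fE, fT,
    fun e he x hx => (mem_centralizer_iff.1 he.2 x hx).symm, cE, fun h => nf ?_, nf⟩
  exact s2.of_card_ge sT.isPGroup (sT.le.trans inf_le_left) (by rw [card_cj, ← cE, h.card_eq, sR.card_eq])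

end H12.TEL
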